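import Groth.Agent.H18.Serre.Finite
import Groth.Agent.H18.FreeEpi
import Groth.Agent.H18.TildeTwistTensor

/-!
# Generation of `M(j)~` by homogeneous elements: epimorphisms from sums of twisting sheaves
-/

set_option autoImplicit false
universe u

noncomputable section

namespace Groth.Agent.H18.Serre

open CategoryTheory AlgebraicGeometry Opposite TopologicalSpace Limits
open Groth.Agent.H8 (res_res res_smul ringRes_res section_eq_of_cover)

section Epi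
variable {X : Scheme.{u}}

/-- Surjectivity on sections over an affine open passes to basic opens (the source need not be
quasi-coherent). -/
theorem app_basicOpen_surjective' {A B : X.Modules} [B.IsQuasicoherent] (φ : A ⟶ B)
    {U : X.Opens} (hU : IsAffineOpen U) (h : Function.Surjective (φ.app U)) (a : Γ(X, U)) :
    Function.Surjective (φ.app (X.basicOpen a)) := by
  intro y
  obtain ⟨n, x, hx⟩ := Groth.Agent.H8.exists_smul_eq_res hU B a y
  obtain ⟨x', rfl⟩ := h x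
  have hua : IsUnit (X.presheaf.map (homOfLE (X.basicOpen_le a)).op a) :=
    RingedSpace.isUnit_res_basicOpen X.toRingedSpace a
  obtain ⟨u, hu⟩ := (hua.pow n).exists_left_inv
  refine ⟨u • A.presheaf.map (homOfLE (X.basicOpen_le a)).op x', ?_⟩
  rw [Scheme.Modules.Hom.app_smul, Groth.Agent.H8.app_res, ← hx, ← mul_smul, hu, one_smul]

set_option backward.isDefEq.respectTransparency false in
/-- A morphism to a quasi-coherent module which is surjective on sections over the members of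
an affine open cover is an epimorphism. -/
theorem epi_of_surjective_affine_cover {A B : X.Modules} [B.IsQuasicoherent] (φ : A ⟶ B)
    {ι : Type*} (U : ι → X.Opens) (hU : IsOpenCover U) (hU' : ∀ i, IsAffineOpen (U i))
    (h : ∀ i, Function.Surjective (φ.app (U i))) : Epi φ := by
  have hls : Presheaf.IsLocallySurjective (Opens.grothendieckTopology X)
      ((SheafOfModules.toSheaf X.ringCatSheaf).map φ).hom := by
    apply TensorModIso.isLocallySurjective_of_locally_surjective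
    intro W x hxW
    obtain ⟨i, hxi⟩ : ∃ i, x ∈ U i := by
      have : x ∈ (⨆ i, U i : X.Opens) := by rw [hU.iSup_eq_top]; trivial
      exact Opens.mem_iSup.mp this
    obtain ⟨f, hf, hxf⟩ := (hU' i).exists_basicOpen_le ⟨x, hxW⟩ hxi
    refine ⟨X.basicOpen f, hf, hxf, ?_⟩
    intro t
    obtain ⟨y, hy⟩ := app_basicOpen_surjective' φ (hU' i) (h i) f t
    exact ⟨y, hy⟩
  have hls' : Sheaf.IsLocallySurjective ((SheafOfModules.toSheaf X.ringCatSheaf).map φ) := hls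
  have hepi : Epi ((SheafOfModules.toSheaf X.ringCatSheaf).map φ) :=
    Sheaf.epi_of_isLocallySurjective _
  exact (SheafOfModules.toSheaf X.ringCatSheaf).epi_of_epi_map hepi

set_option backward.isDefEq.respectTransparency false in
/-- A finite family of morphisms to a quasi-coherent module whose images span the sections over
the members of an affine open cover induces an epimorphism from the coproduct. -/
theorem epi_desc_of_span {k : ℕ} (G : Fin k → X.Modules) (L : X.Modules) [L.IsQuasicoherent]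
    (φ : ∀ i, G i ⟶ L) {ι : Type*} (U : ι → X.Opens) (hU : IsOpenCover U)
    (hU' : ∀ j, IsAffineOpen (U j))
    (h : ∀ (j : ι) (t : Γ(L, U j)), t ∈ Submodule.span Γ(X, U j)
      (⋃ i, Set.range fun y => (φ i).app (U j) y)) :
    Epi (Sigma.desc φ) := by
  refine epi_of_surjective_affine_cover _ U hU hU' (fun j t => ?_)
  have ht := h j t
  induction ht using Submodule.span_induction with
  | mem t ht =>
    obtain ⟨i, y, rfl⟩ := Set.mem_iUnion.mp ht
    refine ⟨(Sigma.ι G i).app (U j) y, ?_⟩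
    have h1 : Sigma.ι G i ≫ Sigma.desc φ = φ i := Sigma.ι_desc _ _
    exact congrArg (fun f : G i ⟶ L => f.app (U j) y) h1
  | zero => exact ⟨0, map_zero _⟩
  | add t t' _ _ ht ht' =>
    obtain ⟨y, rfl⟩ := ht
    obtain ⟨y', rfl⟩ := ht'
    exact ⟨y + y', map_add _ _ _⟩
  | smul c t _ ht =>
    obtain ⟨y, rfl⟩ := ht
    exact ⟨c • y, Scheme.Modules.Hom.app_smul _ c y⟩

end Epi

section Mul
variable {R A : Type u} [CommRing R] [CommRing A] [Algebra R A] (𝒜 : ℕ → Submodule R A)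
  [GradedAlgebra 𝒜]
  {M : Type u} [AddCommGroup M] [Module R M] [Module A M] (ℳ : ℕ → Submodule R M)
  [SetLike.GradedSMul 𝒜 ℳ]

/-- Multiplication of sections of `O(k)` by the homogeneous element `m` of degree `i`. -/
def mulFun {i : ℕ} (m : ℳ i) {k j : ℤ} (h : (i : ℤ) + k = j) (U : (Proj 𝒜).Opens)
    (a : Twist.sectN (𝒜 := 𝒜) k (op U)) : GrTilde.sect 𝒜 ℳ j (op U) :=
  TildeTwistTensor.castSect 𝒜 ℳ h (TildeTwistTensor.smulSect 𝒜 ℳ
    (GrTilde.res 𝒜 ℳ (i : ℤ) (homOfLE (le_top : U ≤ ⊤)).op (GrTilde.globalOf 𝒜 ℳ m)) a)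

theorem mulFun_val {i : ℕ} (m : ℳ i) {k j : ℤ} (h : (i : ℤ) + k = j) (U : (Proj 𝒜).Opens)
    (a : Twist.sectN (𝒜 := 𝒜) k (op U)) (x : U) :
    (((mulFun 𝒜 ℳ m h U a).1 x : GrTilde.tildeAt 𝒜 ℳ j x.1) :
      GrTilde.LocMod 𝒜 (M := M) x.1) =
      ((a.1 x).1 : Twist.Loc 𝒜 x.1) •
        (LocalizedModule.mk m.1 1 : GrTilde.LocMod 𝒜 (M := M) x.1) := by
  subst h
  rfl

theorem mulFun_add {i : ℕ} (m : ℳ i) {k j : ℤ} (h : (i : ℤ) + k = j) (U : (Proj 𝒜).Opens)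
    (a a' : Twist.sectN (𝒜 := 𝒜) k (op U)) :
    mulFun 𝒜 ℳ m h U (a + a') = mulFun 𝒜 ℳ m h U a + mulFun 𝒜 ℳ m h U a' := by
  subst h
  exact TildeTwistTensor.smulSect_add_right 𝒜 ℳ _ a a'

theorem mulFun_smul {i : ℕ} (m : ℳ i) {k j : ℤ} (h : (i : ℤ) + k = j) (U : (Proj 𝒜).Opens)
    (r : Γ(Proj 𝒜, U)) (a : Twist.sectN (𝒜 := 𝒜) k (op U)) :
    mulFun 𝒜 ℳ m h U (toO r • a) = toO r • mulFun 𝒜 ℳ m h U a := by
  subst h
  exact TildeTwistTensor.smulSect_smul_right 𝒜 ℳ (toO r) _ a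

theorem mulFun_res {i : ℕ} (m : ℳ i) {k j : ℤ} (h : (i : ℤ) + k = j) {U U' : (Proj 𝒜).Opens}
    (hU' : U' ≤ U) (a : Twist.sectN (𝒜 := 𝒜) k (op U)) :
    mulFun 𝒜 ℳ m h U' (Twist.resN k (homOfLE hU').op a) =
      GrTilde.res 𝒜 ℳ j (homOfLE hU').op (mulFun 𝒜 ℳ m h U a) := by
  subst h
  rfl

set_option backward.isDefEq.respectTransparency false in
/-- Multiplication by `m` on abelian presheaves. -/
def mulPre {i : ℕ} (m : ℳ i) {k j : ℤ} (h : (i : ℤ) + k = j) :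
    (Twist.twist 𝒜 k).presheaf ⟶ (GrTilde.tilde 𝒜 ℳ j).presheaf where
  app U := AddCommGrpCat.ofHom
    (AddMonoidHom.mk' (mulFun 𝒜 ℳ m h U.unop) (mulFun_add 𝒜 ℳ m h U.unop))
  naturality U U' f := by
    ext a
    exact mulFun_res 𝒜 ℳ m h f.unop.le a

set_option backward.isDefEq.respectTransparency false in
/-- Multiplication by `m` on presheaves of modules. -/
def mulMod {i : ℕ} (m : ℳ i) {k j : ℤ} (h : (i : ℤ) + k = j) :
    (Twist.twist 𝒜 k).val ⟶ (GrTilde.tilde 𝒜 ℳ j).val :=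
  PresheafOfModules.homMk (mulPre 𝒜 ℳ m h)
    (fun U r a => mulFun_smul 𝒜 ℳ m h U.unop r a)

set_option backward.isDefEq.respectTransparency false in
/-- Multiplication by the homogeneous element `m` of degree `i`: `O(k) ⟶ M(i+k)~`. -/
def mulBy {i : ℕ} (m : ℳ i) {k j : ℤ} (h : (i : ℤ) + k = j) :
    Twist.twist 𝒜 k ⟶ GrTilde.tilde 𝒜 ℳ j :=
  Scheme.Modules.fullyFaithfulToPresheafOfModules.preimage (mulMod 𝒜 ℳ m h)

variable {𝒜 ℳ}

set_option backward.isDefEq.respectTransparency false in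
/-- A section of the module `M(j)~`, as a dependent function. -/
def ofTi {j : ℤ} {U : (Proj 𝒜).Opens} (z : Γ(GrTilde.tilde 𝒜 ℳ j, U)) :
    GrTilde.sect 𝒜 ℳ j (op U) := z

set_option backward.isDefEq.respectTransparency false in
/-- A section of the module `O(k)`, as a dependent function. -/
def ofTw {k : ℤ} {U : (Proj 𝒜).Opens} (a : Γ(Twist.twist 𝒜 k, U)) :
    Twist.sectN (𝒜 := 𝒜) k (op U) := a

set_option backward.isDefEq.respectTransparency false in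
/-- A dependent function, as a section of the module `O(k)`. -/
def toTw {k : ℤ} {U : (Proj 𝒜).Opens} (a : Twist.sectN (𝒜 := 𝒜) k (op U)) :
    Γ(Twist.twist 𝒜 k, U) := a

/-- The value of a section of `M(j)~` at a point, in the localized module. -/
def tval {j : ℤ} {U : (Proj 𝒜).Opens} (z : Γ(GrTilde.tilde 𝒜 ℳ j, U)) (x : U) :
    GrTilde.LocMod 𝒜 (M := M) x.1 :=
  (((ofTi z).1 x : GrTilde.tildeAt 𝒜 ℳ j x.1) : GrTilde.LocMod 𝒜 (M := M) x.1)

set_option backward.isDefEq.respectTransparency false in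
theorem tval_ext {j : ℤ} {U : (Proj 𝒜).Opens} {z z' : Γ(GrTilde.tilde 𝒜 ℳ j, U)}
    (h : ∀ x : U, tval z x = tval z' x) : z = z' :=
  show ofTi z = ofTi z' from Subtype.ext (funext fun x => Subtype.ext (h x))

set_option backward.isDefEq.respectTransparency false in
theorem tval_zero {j : ℤ} {U : (Proj 𝒜).Opens} (x : U) :
    tval (0 : Γ(GrTilde.tilde 𝒜 ℳ j, U)) x = 0 := rfl

set_option backward.isDefEq.respectTransparency false in
theorem tval_add {j : ℤ} {U : (Proj 𝒜).Opens} (z z' : Γ(GrTilde.tilde 𝒜 ℳ j, U)) (x : U) :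
    tval (z + z') x = tval z x + tval z' x := rfl

set_option backward.isDefEq.respectTransparency false in
theorem tval_smul {j : ℤ} {U : (Proj 𝒜).Opens} (r : Γ(Proj 𝒜, U))
    (z : Γ(GrTilde.tilde 𝒜 ℳ j, U)) (x : U) :
    tval (r • z) x = (val 𝒜 r x).val • tval z x :=
  GrTilde.coe_smul_val (𝒜 := 𝒜) (ℳ := ℳ) j x.1 ((toO r).1 x) ((ofTi z).1 x)

set_option backward.isDefEq.respectTransparency false in
theorem tval_mulBy {i : ℕ} (m : ℳ i) {k j : ℤ} (h : (i : ℤ) + k = j) {U : (Proj 𝒜).Opens}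
    (a : Γ(Twist.twist 𝒜 k, U)) (x : U) :
    tval ((mulBy 𝒜 ℳ m h).app U a) x =
      (((ofTw a).1 x).1 : Twist.Loc 𝒜 x.1) •
        (LocalizedModule.mk m.1 1 : GrTilde.LocMod 𝒜 (M := M) x.1) :=
  mulFun_val 𝒜 ℳ m h U (ofTw a) x

end Mul

section Gen
variable {R A : Type u} [CommRing R] [CommRing A] [Algebra R A] {𝒜 : ℕ → Submodule R A}
  [GradedAlgebra 𝒜]
  {s : Finset A} {hs1 : ∀ f ∈ s, f ∈ 𝒜 1} {F : (Proj 𝒜).Modules}
  {M : Type u} [AddCommGroup M] [Module R M] [Module A M] {ℳ : ℕ → Submodule R M}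
  (E : EvData 𝒜 s hs1 F ℳ)
  [SetLike.GradedSMul 𝒜 ℳ]

/-- If the modules of sections over the charts are finite, then in every large degree `n` there
are finitely many elements of degree `n` whose evaluations generate over every chart. -/
theorem exists_generators_degree
    (hfin : ∀ g : s, Module.Finite Γ(Proj 𝒜, D 𝒜 g.1) Γ(F, D 𝒜 g.1)) :
    ∃ n₀ : ℕ, ∀ n : ℕ, n₀ ≤ n → ∃ (r : ℕ) (τ : Fin r → ℳ n),
      ∀ (g : s) (u : Γ(F, D 𝒜 g.1)),
        u ∈ Submodule.span Γ(Proj 𝒜, D 𝒜 g.1) (Set.range fun i => E.ev g (τ i).1) := by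
  classical
  have hG : ∀ g : s, ∃ G : Finset Γ(F, D 𝒜 g.1),
      Submodule.span Γ(Proj 𝒜, D 𝒜 g.1) (G : Set Γ(F, D 𝒜 g.1)) = ⊤ := fun g =>
    (hfin g).fg_top
  choose G hG using hG
  choose n_ m_ hm_ hev_ using E.surj
  refine ⟨Finset.univ.sup (fun g : s => (G g).sup (n_ g)), fun n hn => ?_⟩
  have hle : ∀ (g : s) (u : Γ(F, D 𝒜 g.1)), u ∈ G g → n_ g u ≤ n := fun g u hu =>
    (Finset.le_sup hu).trans
      ((Finset.le_sup (f := fun g : s => (G g).sup (n_ g)) (Finset.mem_univ g)).trans hn)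
  obtain ⟨T, hT, hsp⟩ : ∃ T : Finset M, (∀ t ∈ T, t ∈ ℳ n) ∧
      ∀ (g : s) (u : Γ(F, D 𝒜 g.1)), u ∈ Submodule.span Γ(Proj 𝒜, D 𝒜 g.1)
        ((fun t => E.ev g t) '' (T : Set M)) := by
    refine ⟨Finset.univ.biUnion (fun g : s =>
      (G g).image (fun u => g.1 ^ (n - n_ g u) • m_ g u)), ?_, ?_⟩
    · intro t ht
      rw [Finset.mem_biUnion] at ht
      obtain ⟨g, _, ht⟩ := ht
      rw [Finset.mem_image] at ht
      obtain ⟨u, hu, rfl⟩ := ht
      have h1 : g.1 ^ (n - n_ g u) • m_ g u ∈ ℳ ((n - n_ g u) + n_ g u) :=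
        SetLike.GradedSMul.smul_mem (pow_mem_one 𝒜 (hs1 g.1 g.2) _) (hm_ g u)
      rwa [Nat.sub_add_cancel (hle g u hu)] at h1
    · intro g u
      have hu : u ∈ Submodule.span Γ(Proj 𝒜, D 𝒜 g.1) (G g : Set Γ(F, D 𝒜 g.1)) := by
        rw [hG g]
        trivial
      refine (Submodule.span_le.mpr ?_) hu
      intro v hv
      refine Submodule.subset_span ⟨g.1 ^ (n - n_ g v) • m_ g v, ?_, ?_⟩
      · rw [Finset.mem_coe, Finset.mem_biUnion]
        exact ⟨g, Finset.mem_univ g, Finset.mem_image_of_mem _ (Finset.mem_coe.mp hv)⟩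
      · show E.ev g (g.1 ^ (n - n_ g v) • m_ g v) = v
        rw [E.ev_smul g _ _ (pow_mem_one 𝒜 (hs1 g.1 g.2) _) (m_ g v), frac_self, one_smul,
          hev_ g v]
  refine ⟨T.card, fun i => ⟨(T.equivFin.symm i).1, hT _ (T.equivFin.symm i).2⟩, fun g u => ?_⟩
  refine Submodule.span_mono ?_ (hsp g u)
  rintro _ ⟨t, ht, rfl⟩
  refine ⟨T.equivFin ⟨t, Finset.mem_coe.mp ht⟩, ?_⟩
  show E.ev g ((T.equivFin.symm (T.equivFin ⟨t, Finset.mem_coe.mp ht⟩)).1) = E.ev g t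
  rw [Equiv.symm_apply_apply]

variable [F.IsQuasicoherent]
  (hcov : ∀ x : Proj 𝒜, ∃ g : s, g.1 ∉ (x : ProjectiveSpectrum 𝒜).asHomogeneousIdeal)

set_option backward.isDefEq.respectTransparency false in
/-- The comparison morphism sends the evaluation of a homogeneous element `m` of degree `n` on
the chart `D₊(g)` to the fraction `m / g^n`. -/
theorem tval_psi_ev (g : s) {n : ℕ} {m : M} (hm : m ∈ ℳ n) (x : D 𝒜 g.1) :
    tval ((psi E hcov).app (D 𝒜 g.1) (E.ev g m)) x =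
      LocalizedModule.mk m ⟨g.1 ^ n, nv_pow 𝒜 (le_refl (D 𝒜 g.1)) n x⟩ := by
  have hgi : g.1 ^ n ∈ 𝒜 n := pow_mem_one 𝒜 (hs1 g.1 g.2) n
  have heq : F.presheaf.map (homOfLE (le_refl (D 𝒜 g.1))).op (E.ev g m) =
      frac 𝒜 (D 𝒜 g.1) hgi hgi (nv_pow 𝒜 le_rfl n) •
        F.presheaf.map (homOfLE (le_refl (D 𝒜 g.1))).op (E.ev g m) := by
    rw [frac_self, one_smul]
  exact psiFun_val E hcov (E.ev g m) x.1 x.2
    ⟨D 𝒜 g.1, x.2, le_rfl, g, le_rfl, n, m, hm, g.1 ^ n, hgi, nv_pow 𝒜 le_rfl n, heq⟩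

include hcov in
set_option backward.isDefEq.respectTransparency false in
/-- Over a chart, every section of `M(n+k)~` is a combination of products of the generators
in degree `n` with sections of `O(k)`. -/
theorem mem_span_range_mulBy [DirectSum.Decomposition ℳ] {n r : ℕ} (τ : Fin r → ℳ n)
    (hspan : ∀ (g : s) (u : Γ(F, D 𝒜 g.1)),
      u ∈ Submodule.span Γ(Proj 𝒜, D 𝒜 g.1) (Set.range fun i => E.ev g (τ i).1))
    {k j : ℤ} (h : (n : ℤ) + k = j) (g : s) (σ : Γ(GrTilde.tilde 𝒜 ℳ j, D 𝒜 g.1)) :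
    σ ∈ Submodule.span Γ(Proj 𝒜, D 𝒜 g.1)
      (⋃ i, Set.range fun y => (mulBy 𝒜 ℳ (τ i) h).app (D 𝒜 g.1) y) := by
  have hg1 := hs1 g.1 g.2
  obtain ⟨a, b, hab⟩ : ∃ a b : ℕ, (b : ℤ) - a = j :=
    ⟨(-j).toNat, j.toNat, Int.toNat_sub_toNat_neg j⟩
  have hga : g.1 ^ a ∈ 𝒜 a := pow_mem_one 𝒜 hg1 a
  have hgb : g.1 ^ b ∈ 𝒜 b := pow_mem_one 𝒜 hg1 b
  have hgan : g.1 ^ (a + n) ∈ 𝒜 (a + n) := pow_mem_one 𝒜 hg1 (a + n)
  have nva := nv_pow 𝒜 (le_refl (D 𝒜 g.1)) a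
  have nvb := nv_pow 𝒜 (le_refl (D 𝒜 g.1)) b
  have nvan := nv_pow 𝒜 (le_refl (D 𝒜 g.1)) (a + n)
  have key : ∀ u : Γ(F, D 𝒜 g.1),
      u ∈ Submodule.span Γ(Proj 𝒜, D 𝒜 g.1) (Set.range fun i => E.ev g (τ i).1) →
      ∃ σ' ∈ Submodule.span Γ(Proj 𝒜, D 𝒜 g.1)
        (⋃ i, Set.range fun y => (mulBy 𝒜 ℳ (τ i) h).app (D 𝒜 g.1) y),
        ∀ x : D 𝒜 g.1, tval σ' x =
          (Localization.mk (g.1 ^ b) ⟨g.1 ^ a, nva x⟩ : Twist.Loc 𝒜 x.1) •
            tval ((psi E hcov).app (D 𝒜 g.1) u) x := by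
    intro u hu
    induction hu using Submodule.span_induction with
    | mem u hu =>
      obtain ⟨i, rfl⟩ := hu
      have hpq : (b : ℤ) = ((a + n : ℕ) : ℤ) + k := by
        push_cast
        omega
      refine ⟨(mulBy 𝒜 ℳ (τ i) h).app (D 𝒜 g.1)
        (toTw (TwistRestrict.fracSection 𝒜 hgb hgan hpq nvan)),
        Submodule.subset_span (Set.mem_iUnion.mpr ⟨i, ⟨_, rfl⟩⟩), fun x => ?_⟩
      rw [tval_mulBy, tval_psi_ev E hcov g (τ i).2 x]
      show (Localization.mk (g.1 ^ b) ⟨g.1 ^ (a + n), nvan x⟩ : Twist.Loc 𝒜 x.1) •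
        (LocalizedModule.mk (τ i).1 1 : GrTilde.LocMod 𝒜 (M := M) x.1) = _
      rw [LocalizedModule.mk_smul_mk, LocalizedModule.mk_smul_mk]
      congr 1
      exact Subtype.ext (show g.1 ^ (a + n) * 1 = g.1 ^ a * g.1 ^ n by rw [mul_one, pow_add])
    | zero =>
      refine ⟨0, zero_mem _, fun x => ?_⟩
      rw [map_zero, tval_zero, tval_zero, smul_zero]
    | add u u' _ _ hu hu' =>
      obtain ⟨σ₁, hσ₁, h₁⟩ := hu
      obtain ⟨σ₂, hσ₂, h₂⟩ := hu'
      refine ⟨σ₁ + σ₂, add_mem hσ₁ hσ₂, fun x => ?_⟩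
      rw [map_add, tval_add, tval_add, h₁ x, h₂ x, smul_add]
    | smul c u _ hu =>
      obtain ⟨σ₁, hσ₁, h₁⟩ := hu
      refine ⟨c • σ₁, Submodule.smul_mem _ c hσ₁, fun x => ?_⟩
      rw [Scheme.Modules.Hom.app_smul, tval_smul, tval_smul, h₁ x, smul_comm]
  have hqa : (a : ℤ) = (b : ℤ) + (-j) := by omega
  have h0 : j + (-j) = 0 := by ring
  obtain ⟨u, hu⟩ := psiFun_surjective_chart E hcov g
    (TildeTwistTensor.castSect 𝒜 ℳ h0 (TildeTwistTensor.smulSect 𝒜 ℳ (ofTi σ)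
      (TwistRestrict.fracSection 𝒜 hga hgb hqa nvb)))
  obtain ⟨σ', hσ', hval⟩ := key u (hspan g u)
  have hσ : σ' = σ := by
    refine tval_ext (fun x => ?_)
    rw [hval x]
    have h1 : tval ((psi E hcov).app (D 𝒜 g.1) u) x =
        (Localization.mk (g.1 ^ a) ⟨g.1 ^ b, nvb x⟩ : Twist.Loc 𝒜 x.1) • tval σ x := by
      show (((psiFun E hcov (D 𝒜 g.1) u).1 x : GrTilde.tildeAt 𝒜 ℳ 0 x.1) :
        GrTilde.LocMod 𝒜 (M := M) x.1) = _
      rw [hu, TildeTwistTensor.castSect_val]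
      rfl
    rw [h1, smul_smul, TwistRestrict.mk_mul_mk_swap, one_smul]
  rw [← hσ]
  exact hσ'

include E hcov in
/-- The morphisms `O(k) ⟶ M(n+k)~` given by generators of degree `n` are jointly epimorphic. -/
theorem epi_desc_mulBy [DirectSum.Decomposition ℳ] [IsScalarTower R A M] {n r : ℕ}
    (τ : Fin r → ℳ n)
    (hspan : ∀ (g : s) (u : Γ(F, D 𝒜 g.1)),
      u ∈ Submodule.span Γ(Proj 𝒜, D 𝒜 g.1) (Set.range fun i => E.ev g (τ i).1))
    {k j : ℤ} (h : (n : ℤ) + k = j) :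
    Epi (Sigma.desc (fun i : Fin r => mulBy 𝒜 ℳ (τ i) h)) := by
  have : (GrTilde.tilde 𝒜 ℳ j).IsQuasicoherent := Groth.Agent.S3545.result 𝒜 ℳ j
  have hcover : IsOpenCover (fun g : s => D 𝒜 g.1) := by
    refine eq_top_iff.mpr (fun x _ => ?_)
    obtain ⟨g, hg⟩ := hcov x
    exact Opens.mem_iSup.mpr ⟨g, hg⟩
  exact epi_desc_of_span (fun _ : Fin r => Twist.twist 𝒜 k) (GrTilde.tilde 𝒜 ℳ j)
    (fun i : Fin r => mulBy 𝒜 ℳ (τ i) h) (fun g : s => D 𝒜 g.1) hcover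
    (fun g => Proj.isAffineOpen_basicOpen 𝒜 g.1 (hs1 g.1 g.2) Nat.one_pos)
    (fun g σ => mem_span_range_mulBy E hcov τ hspan h g σ)

end Gen

end Groth.Agent.H18.Serre

end
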