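import Groth.Agent.H18.Serre.Frac
import Groth.Agent.H18.GradedModule
import Groth.Agent.S3545

/-!
# Quasi-coherent modules on `Proj` from evaluation data

Abstract form of Serre's theorem: a graded module `M` together with "evaluation maps"
`M → Γ(F, D₊(g))` (for `g` in a finite set of degree one elements covering `Proj`) satisfying
natural axioms gives an isomorphism `M~ ≅ F`.
-/

set_option autoImplicit false
universe u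

namespace Groth.Agent.H18.Serre

open CategoryTheory AlgebraicGeometry Opposite TopologicalSpace
open Groth.Agent.H8 (res_res res_smul ringRes_res section_eq_of_cover)

section
variable {R A : Type u} [CommRing R] [CommRing A] [Algebra R A] (𝒜 : ℕ → Submodule R A)
  [GradedAlgebra 𝒜]

/-- The chart `D₊(g)`. -/
abbrev D (g : A) : (Proj 𝒜).Opens := Proj.basicOpen 𝒜 g

theorem res_self {X : Scheme.{u}} (N : X.Modules) {U : X.Opens} (t : Γ(N, U)) :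
    N.presheaf.map (homOfLE (le_refl U)).op t = t := by
  have h : (homOfLE (le_refl U)).op = 𝟙 (op U) := rfl
  rw [h, CategoryTheory.Functor.map_id]
  rfl

variable (s : Finset A) (hs1 : ∀ f ∈ s, f ∈ 𝒜 1) (F : (Proj 𝒜).Modules)
  {M : Type u} [AddCommGroup M] [Module R M] [Module A M] (ℳ : ℕ → Submodule R M)

/-- Evaluation data relating a graded module to a module on `Proj`. -/
structure EvData where
  ev : ∀ g : s, M →+ Γ(F, D 𝒜 g.1)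
  ev_smul : ∀ (g : s) (d : ℕ) (a : A) (ha : a ∈ 𝒜 d) (m : M),
    ev g (a • m) = frac 𝒜 (D 𝒜 g.1) ha (pow_mem_one 𝒜 (hs1 g.1 g.2) d) (nv_pow 𝒜 le_rfl d) • ev g m
  compat : ∀ (g h : s) (n : ℕ) (m : M), m ∈ ℳ n →
    F.presheaf.map (homOfLE (inf_le_left : D 𝒜 g.1 ⊓ D 𝒜 h.1 ≤ D 𝒜 g.1)).op (ev g m) =
      frac 𝒜 (D 𝒜 g.1 ⊓ D 𝒜 h.1) (pow_mem_one 𝒜 (hs1 h.1 h.2) n)
        (pow_mem_one 𝒜 (hs1 g.1 g.2) n) (nv_pow 𝒜 inf_le_left n) •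
      F.presheaf.map (homOfLE (inf_le_right : D 𝒜 g.1 ⊓ D 𝒜 h.1 ≤ D 𝒜 h.1)).op (ev h m)
  inj : ∀ (n : ℕ) (m : M), m ∈ ℳ n → (∀ g, ev g m = 0) → m = 0
  surj : ∀ (g : s) (u : Γ(F, D 𝒜 g.1)), ∃ (n : ℕ) (m : M), m ∈ ℳ n ∧ ev g m = u

variable {𝒜 s hs1 F ℳ}
variable (E : EvData 𝒜 s hs1 F ℳ)

theorem ev_smul_res (g : s) {V : (Proj 𝒜).Opens} (hVg : V ≤ D 𝒜 g.1) {d : ℕ} {a : A}
    (ha : a ∈ 𝒜 d) (m : M) :
    F.presheaf.map (homOfLE hVg).op (E.ev g (a • m)) =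
      frac 𝒜 V ha (pow_mem_one 𝒜 (hs1 g.1 g.2) d) (nv_pow 𝒜 hVg d) •
        F.presheaf.map (homOfLE hVg).op (E.ev g m) := by
  rw [E.ev_smul g d a ha m, res_smul]
  rfl

theorem compat_on (g h : s) {V : (Proj 𝒜).Opens} (hVg : V ≤ D 𝒜 g.1) (hVh : V ≤ D 𝒜 h.1)
    {n : ℕ} {m : M} (hm : m ∈ ℳ n) :
    F.presheaf.map (homOfLE hVg).op (E.ev g m) =
      frac 𝒜 V (pow_mem_one 𝒜 (hs1 h.1 h.2) n) (pow_mem_one 𝒜 (hs1 g.1 g.2) n)
        (nv_pow 𝒜 hVg n) • F.presheaf.map (homOfLE hVh).op (E.ev h m) := by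
  have h1 := E.compat g h n m hm
  have h2 := congrArg (F.presheaf.map (homOfLE (le_inf hVg hVh)).op) h1
  rw [res_res, res_smul, res_res] at h2
  exact h2

variable [SetLike.GradedSMul 𝒜 ℳ]

section QCoh
variable [F.IsQuasicoherent]

/-- A homogeneous element vanishing on one chart is killed by a power of the chart's
generator. -/
theorem torsion_chart (g : s) {n : ℕ} {m : M} (hm : m ∈ ℳ n) (h0 : E.ev g m = 0) :
    ∃ N : ℕ, g.1 ^ N • m = 0 := by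
  have h1 : ∀ g' : s, ∃ N : ℕ,
      frac 𝒜 (D 𝒜 g'.1) (hs1 g.1 g.2) (hs1 g'.1 g'.2) (fun x => x.2) ^ N • E.ev g' m = 0 := by
    intro g'
    refine Groth.Agent.H8.exists_smul_eq_zero
      (Proj.isAffineOpen_basicOpen 𝒜 g'.1 (hs1 g'.1 g'.2) Nat.one_pos) F _ _ ?_
    have hle : (Proj 𝒜).basicOpen
        (frac 𝒜 (D 𝒜 g'.1) (hs1 g.1 g.2) (hs1 g'.1 g'.2) (fun x => x.2)) ≤
        D 𝒜 g'.1 ⊓ D 𝒜 g.1 := fun y hy =>
      ⟨((mem_basicOpen_frac 𝒜 _ _ _ y).mp hy).1, ((mem_basicOpen_frac 𝒜 _ _ _ y).mp hy).2⟩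
    rw [← res_res F hle inf_le_left, E.compat g' g n m hm, h0, map_zero, smul_zero, map_zero]
  choose N_ hN_ using h1
  obtain ⟨N, hN⟩ : ∃ N : ℕ, ∀ g' : s, N_ g' ≤ N :=
    ⟨Finset.univ.sup N_, fun g' => Finset.le_sup (Finset.mem_univ g')⟩
  refine ⟨N, E.inj (N + n) _
    (SetLike.GradedSMul.smul_mem (pow_mem_one 𝒜 (hs1 g.1 g.2) N) hm) (fun g' => ?_)⟩
  obtain ⟨r, hr⟩ := Nat.exists_eq_add_of_le (hN g')
  rw [E.ev_smul g' N (g.1 ^ N) (pow_mem_one 𝒜 (hs1 g.1 g.2) N) m]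
  have e : frac 𝒜 (D 𝒜 g'.1) (pow_mem_one 𝒜 (hs1 g.1 g.2) N)
      (pow_mem_one 𝒜 (hs1 g'.1 g'.2) N) (nv_pow 𝒜 le_rfl N) =
      frac 𝒜 (D 𝒜 g'.1) (hs1 g.1 g.2) (hs1 g'.1 g'.2) (fun x => x.2) ^ r *
        frac 𝒜 (D 𝒜 g'.1) (hs1 g.1 g.2) (hs1 g'.1 g'.2) (fun x => x.2) ^ N_ g' := by
    rw [← pow_add, frac_pow]
    refine frac_eq_of 𝒜 _ _ _ _ _ _ ?_
    rw [hr, add_comm r]
  rw [e, mul_smul, hN_ g', smul_zero]

/-- A homogeneous element whose evaluation vanishes near a point is killed by a homogeneous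
element not vanishing at the point. -/
theorem torsion_local (g : s) {k : ℕ} {δ : M} (hδ : δ ∈ ℳ k) {W : (Proj 𝒜).Opens}
    (hWg : W ≤ D 𝒜 g.1) (x : Proj 𝒜) (hxW : x ∈ W)
    (h0 : F.presheaf.map (homOfLE hWg).op (E.ev g δ) = 0) :
    ∃ (e : ℕ) (c : A), c ∈ 𝒜 e ∧ c ∉ (x : ProjectiveSpectrum 𝒜).asHomogeneousIdeal ∧
      c • δ = 0 := by
  obtain ⟨e, h, hh, hhx, hhW⟩ :=
    Groth.Agent.H18.TildeSections.exists_homogeneous_basicOpen_subset 𝒜 W x hxW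
  have hle : (Proj 𝒜).basicOpen (frac 𝒜 (D 𝒜 g.1) hh (pow_mem_one 𝒜 (hs1 g.1 g.2) e)
      (nv_pow 𝒜 le_rfl e)) ≤ W := fun y hy =>
    hhW y ((mem_basicOpen_frac 𝒜 _ _ _ y).mp hy).2
  obtain ⟨N, hN⟩ := Groth.Agent.H8.exists_smul_eq_zero
    (Proj.isAffineOpen_basicOpen 𝒜 g.1 (hs1 g.1 g.2) Nat.one_pos) F
    (frac 𝒜 (D 𝒜 g.1) hh (pow_mem_one 𝒜 (hs1 g.1 g.2) e) (nv_pow 𝒜 le_rfl e)) (E.ev g δ)
    (by rw [← res_res F hle hWg, h0, map_zero])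
  have hmem : h ^ N • δ ∈ ℳ (N • e + k) :=
    SetLike.GradedSMul.smul_mem (SetLike.pow_mem_graded N hh) hδ
  have h1 : E.ev g (h ^ N • δ) = 0 := by
    rw [E.ev_smul g (N • e) (h ^ N) (SetLike.pow_mem_graded N hh) δ]
    have e1 : frac 𝒜 (D 𝒜 g.1) (SetLike.pow_mem_graded N hh)
        (pow_mem_one 𝒜 (hs1 g.1 g.2) (N • e)) (nv_pow 𝒜 le_rfl (N • e)) =
        frac 𝒜 (D 𝒜 g.1) hh (pow_mem_one 𝒜 (hs1 g.1 g.2) e) (nv_pow 𝒜 le_rfl e) ^ N := by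
      rw [frac_pow]
      refine frac_eq_of 𝒜 _ _ _ _ _ _ ?_
      rw [smul_eq_mul, mul_comm N e, pow_mul]
    rw [e1, hN]
  obtain ⟨N', hN'⟩ := torsion_chart E g hmem h1
  refine ⟨N' + N • e, g.1 ^ N' * h ^ N,
    SetLike.mul_mem_graded (pow_mem_one 𝒜 (hs1 g.1 g.2) N') (SetLike.pow_mem_graded N hh), ?_, ?_⟩
  · intro hc
    rcases (x : ProjectiveSpectrum 𝒜).isPrime.mem_or_mem hc with h2 | h2
    · exact (hWg hxW : g.1 ∉ (x : ProjectiveSpectrum 𝒜).asHomogeneousIdeal)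
        ((x : ProjectiveSpectrum 𝒜).isPrime.mem_of_pow_mem N' h2)
    · exact hhx ((x : ProjectiveSpectrum 𝒜).isPrime.mem_of_pow_mem N h2)
  · rw [mul_smul, hN']

/-- Uniqueness of local representations. -/
theorem rep_unique {V : (Proj 𝒜).Opens} (x : Proj 𝒜) (hxV : x ∈ V) (g g' : s)
    (hVg : V ≤ D 𝒜 g.1) (hVg' : V ≤ D 𝒜 g'.1) {n n' : ℕ} {m m' : M} (hm : m ∈ ℳ n)
    (hm' : m' ∈ ℳ n') {b b' : A} (hb : b ∈ 𝒜 n) (hb' : b' ∈ 𝒜 n')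
    (hbV : ∀ y : V, b ∉ y.1.asHomogeneousIdeal) (hbV' : ∀ y : V, b' ∉ y.1.asHomogeneousIdeal)
    (h : frac 𝒜 V (pow_mem_one 𝒜 (hs1 g.1 g.2) n) hb hbV •
        F.presheaf.map (homOfLE hVg).op (E.ev g m) =
      frac 𝒜 V (pow_mem_one 𝒜 (hs1 g'.1 g'.2) n') hb' hbV' •
        F.presheaf.map (homOfLE hVg').op (E.ev g' m')) :
    (LocalizedModule.mk m ⟨b, hbV ⟨x, hxV⟩⟩ : GrTilde.LocMod 𝒜 (M := M) x) =
      LocalizedModule.mk m' ⟨b', hbV' ⟨x, hxV⟩⟩ := by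
  -- step 2: same chart
  have h2 : frac 𝒜 V (pow_mem_one 𝒜 (hs1 g.1 g.2) n) hb hbV •
        F.presheaf.map (homOfLE hVg).op (E.ev g m) =
      frac 𝒜 V (pow_mem_one 𝒜 (hs1 g.1 g.2) n') hb' hbV' •
        F.presheaf.map (homOfLE hVg).op (E.ev g m') := by
    rw [h, compat_on E g' g hVg' hVg hm', smul_smul, frac_mul]
    congr 1
    exact frac_eq_of 𝒜 _ _ _ _ _ _ (by ring)
  -- the difference
  have hδ : b' • m - b • m' ∈ ℳ (n' + n) := by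
    refine sub_mem (SetLike.GradedSMul.smul_mem hb' hm) ?_
    rw [add_comm]
    exact SetLike.GradedSMul.smul_mem hb hm'
  have h4 : F.presheaf.map (homOfLE hVg).op (E.ev g (b' • m - b • m')) = 0 := by
    rw [map_sub, map_sub, ev_smul_res E g hVg hb' m, ev_smul_res E g hVg hb m']
    have e1 : frac 𝒜 V hb' (pow_mem_one 𝒜 (hs1 g.1 g.2) n') (nv_pow 𝒜 hVg n') =
        frac 𝒜 V (SetLike.mul_mem_graded hb hb')
          (SetLike.mul_mem_graded (pow_mem_one 𝒜 (hs1 g.1 g.2) n)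
            (pow_mem_one 𝒜 (hs1 g.1 g.2) n')) (nv_mul 𝒜 (nv_pow 𝒜 hVg n) (nv_pow 𝒜 hVg n')) *
          frac 𝒜 V (pow_mem_one 𝒜 (hs1 g.1 g.2) n) hb hbV := by
      rw [frac_mul]
      exact frac_eq_of 𝒜 _ _ _ _ _ _ (by ring)
    have e2 : frac 𝒜 V hb (pow_mem_one 𝒜 (hs1 g.1 g.2) n) (nv_pow 𝒜 hVg n) =
        frac 𝒜 V (SetLike.mul_mem_graded hb hb')
          (SetLike.mul_mem_graded (pow_mem_one 𝒜 (hs1 g.1 g.2) n)
            (pow_mem_one 𝒜 (hs1 g.1 g.2) n')) (nv_mul 𝒜 (nv_pow 𝒜 hVg n) (nv_pow 𝒜 hVg n')) *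
          frac 𝒜 V (pow_mem_one 𝒜 (hs1 g.1 g.2) n') hb' hbV' := by
      rw [frac_mul]
      exact frac_eq_of 𝒜 _ _ _ _ _ _ (by ring)
    rw [e1, e2, mul_smul, mul_smul, h2, sub_self]
  obtain ⟨e, c, _, hcx, hc0⟩ := torsion_local E g hδ hVg x hxV h4
  rw [LocalizedModule.mk_eq]
  refine ⟨⟨c, hcx⟩, ?_⟩
  show c • b' • m = c • b • m'
  rw [smul_sub] at hc0
  exact sub_eq_zero.mp hc0

end QCoh

end
end Groth.Agent.H18.Serre
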