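import Groth.Agent.H18.Serre.Abstract

/-!
# Local representations and the comparison morphism `F ⟶ M~`
-/

set_option autoImplicit false
universe u

namespace Groth.Agent.H18.Serre

open CategoryTheory AlgebraicGeometry Opposite TopologicalSpace
open Groth.Agent.H8 (res_res res_smul ringRes_res section_eq_of_cover)

section
variable {R A : Type u} [CommRing R] [CommRing A] [Algebra R A] {𝒜 : ℕ → Submodule R A}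
  [GradedAlgebra 𝒜]

theorem frac_mul_swap {V : (Proj 𝒜).Opens} {n : ℕ} {a b : A} (ha : a ∈ 𝒜 n) (hb : b ∈ 𝒜 n)
    (hVa : ∀ x : V, a ∉ x.1.asHomogeneousIdeal) (hVb : ∀ x : V, b ∉ x.1.asHomogeneousIdeal) :
    frac 𝒜 V ha hb hVb * frac 𝒜 V hb ha hVa = 1 := by
  rw [frac_mul]
  exact (frac_eq_of 𝒜 _ _ _ (SetLike.mul_mem_graded hb ha) (SetLike.mul_mem_graded hb ha)
    (nv_mul 𝒜 hVb hVa) (by ring)).trans (frac_self 𝒜 _ _)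

variable {s : Finset A} {hs1 : ∀ f ∈ s, f ∈ 𝒜 1} {F : (Proj 𝒜).Modules}
  {M : Type u} [AddCommGroup M] [Module R M] [Module A M] {ℳ : ℕ → Submodule R M}
  (E : EvData 𝒜 s hs1 F ℳ)

/-- A local representation of a section `t` of `F` near `x` as `(g^n / b) • ev_g(m)`. -/
structure LocRep {U : (Proj 𝒜).Opens} (t : Γ(F, U)) (x : Proj 𝒜) where
  V : (Proj 𝒜).Opens
  hxV : x ∈ V
  hVU : V ≤ U
  g : s
  hVg : V ≤ D 𝒜 g.1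
  n : ℕ
  m : M
  hm : m ∈ ℳ n
  b : A
  hb : b ∈ 𝒜 n
  hbV : ∀ y : V, b ∉ y.1.asHomogeneousIdeal
  eq : F.presheaf.map (homOfLE hVU).op t =
    frac 𝒜 V (pow_mem_one 𝒜 (hs1 g.1 g.2) n) hb hbV •
      F.presheaf.map (homOfLE hVg).op (E.ev g m)

namespace LocRep

variable {E} {U : (Proj 𝒜).Opens} {t t' : Γ(F, U)} {x : Proj 𝒜}

/-- The element of the localized module defined by a local representation. -/
def q (ρ : LocRep E t x) : GrTilde.LocMod 𝒜 (M := M) x :=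
  LocalizedModule.mk ρ.m ⟨ρ.b, ρ.hbV ⟨x, ρ.hxV⟩⟩

theorem q_mem (ρ : LocRep E t x) : ρ.q ∈ GrTilde.tildeAt 𝒜 ℳ 0 x := by
  unfold GrTilde.tildeAt
  refine Submodule.subset_span ?_
  exact ⟨ρ.n, ρ.n, ⟨ρ.m, ρ.hm⟩, ⟨ρ.b, ρ.hb⟩, ρ.hbV ⟨x, ρ.hxV⟩, by simp, rfl⟩

/-- The same representation at another point of its domain. -/
def atPt (ρ : LocRep E t x) (y : Proj 𝒜) (hy : y ∈ ρ.V) : LocRep E t y :=
  ⟨ρ.V, hy, ρ.hVU, ρ.g, ρ.hVg, ρ.n, ρ.m, ρ.hm, ρ.b, ρ.hb, ρ.hbV, ρ.eq⟩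

theorem atPt_q (ρ : LocRep E t x) (y : Proj 𝒜) (hy : y ∈ ρ.V) :
    (ρ.atPt y hy).q = LocalizedModule.mk ρ.m ⟨ρ.b, ρ.hbV ⟨y, hy⟩⟩ := rfl

variable [SetLike.GradedSMul 𝒜 ℳ]

theorem q_eq [F.IsQuasicoherent] (ρ ρ' : LocRep E t x) : ρ.q = ρ'.q := by
  have h1 := congrArg (F.presheaf.map (homOfLE (inf_le_left : ρ.V ⊓ ρ'.V ≤ ρ.V)).op) ρ.eq
  have h2 := congrArg (F.presheaf.map (homOfLE (inf_le_right : ρ.V ⊓ ρ'.V ≤ ρ'.V)).op) ρ'.eq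
  rw [res_res, res_smul, res_res, frac_res] at h1 h2
  exact rep_unique E (V := ρ.V ⊓ ρ'.V) x ⟨ρ.hxV, ρ'.hxV⟩ ρ.g ρ'.g (inf_le_left.trans ρ.hVg)
    (inf_le_right.trans ρ'.hVg) ρ.hm ρ'.hm ρ.hb ρ'.hb (nv_mono 𝒜 inf_le_left ρ.hbV)
    (nv_mono 𝒜 inf_le_right ρ'.hbV) (h1.symm.trans h2)

theorem exists_add (ρ : LocRep E t x) (ρ' : LocRep E t' x) :
    ∃ ρ'' : LocRep E (t + t') x, ρ''.q = ρ.q + ρ'.q := by
  have hW1 : ρ.V ⊓ ρ'.V ≤ ρ.V := inf_le_left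
  have hW2 : ρ.V ⊓ ρ'.V ≤ ρ'.V := inf_le_right
  have hA := congrArg (F.presheaf.map (homOfLE hW1).op) ρ.eq
  have hB := congrArg (F.presheaf.map (homOfLE hW2).op) ρ'.eq
  rw [res_res, res_smul, res_res, frac_res] at hA hB
  have hC := compat_on E ρ'.g ρ.g (hW2.trans ρ'.hVg) (hW1.trans ρ.hVg) ρ'.hm
  refine ⟨⟨ρ.V ⊓ ρ'.V, ⟨ρ.hxV, ρ'.hxV⟩, hW1.trans ρ.hVU, ρ.g, hW1.trans ρ.hVg, ρ'.n + ρ.n,
    ρ'.b • ρ.m + ρ.b • ρ'.m, ?_, ρ.b * ρ'.b, ?_,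
    nv_mul 𝒜 (nv_mono 𝒜 hW1 ρ.hbV) (nv_mono 𝒜 hW2 ρ'.hbV), ?_⟩, ?_⟩
  · refine add_mem (SetLike.GradedSMul.smul_mem ρ'.hb ρ.hm) ?_
    rw [add_comm]
    exact SetLike.GradedSMul.smul_mem ρ.hb ρ'.hm
  · rw [add_comm]
    exact SetLike.mul_mem_graded ρ.hb ρ'.hb
  · rw [map_add, hA, hB, hC, map_add, map_add, ev_smul_res E ρ.g _ ρ'.hb ρ.m,
      ev_smul_res E ρ.g _ ρ.hb ρ'.m, smul_add, smul_smul, smul_smul, smul_smul, frac_mul,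
      frac_mul, frac_mul]
    congr 1
    · congr 1
      exact frac_eq_of 𝒜 _ _ _ _ _ _ (by ring)
    · congr 1
      exact frac_eq_of 𝒜 _ _ _ _ _ _ (by ring)
  · show (LocalizedModule.mk (ρ'.b • ρ.m + ρ.b • ρ'.m) ⟨ρ.b * ρ'.b, _⟩ :
        GrTilde.LocMod 𝒜 (M := M) x) =
      LocalizedModule.mk ρ.m ⟨ρ.b, _⟩ + LocalizedModule.mk ρ'.m ⟨ρ'.b, _⟩
    rw [LocalizedModule.mk_add_mk]
    rfl

theorem exists_smul (ρ : LocRep E t x) (r : Γ(Proj 𝒜, U)) :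
    ∃ ρ' : LocRep E (r • t) x, ρ'.q = (val 𝒜 r ⟨x, ρ.hVU ρ.hxV⟩).val • ρ.q := by
  obtain ⟨V₁, hxV₁, hV₁U, e, a, c, ha, hc, hcV, hr⟩ := exists_frac_local 𝒜 r x (ρ.hVU ρ.hxV)
  have hW1 : ρ.V ⊓ V₁ ≤ ρ.V := inf_le_left
  have hW2 : ρ.V ⊓ V₁ ≤ V₁ := inf_le_right
  have hA := congrArg (F.presheaf.map (homOfLE hW1).op) ρ.eq
  rw [res_res, res_smul, res_res, frac_res] at hA
  have hR := congrArg ((Proj 𝒜).presheaf.map (homOfLE hW2).op) hr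
  rw [ringRes_res, frac_res] at hR
  refine ⟨⟨ρ.V ⊓ V₁, ⟨ρ.hxV, hxV₁⟩, hW1.trans ρ.hVU, ρ.g, hW1.trans ρ.hVg, e + ρ.n, a • ρ.m,
    SetLike.GradedSMul.smul_mem ha ρ.hm, c * ρ.b, SetLike.mul_mem_graded hc ρ.hb,
    nv_mul 𝒜 (nv_mono 𝒜 hW2 hcV) (nv_mono 𝒜 hW1 ρ.hbV), ?_⟩, ?_⟩
  · rw [res_smul, hR, hA, ev_smul_res E ρ.g _ ha ρ.m, smul_smul, smul_smul, frac_mul, frac_mul]
    congr 1
    exact frac_eq_of 𝒜 _ _ _ _ _ _ (by ring)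
  · have hv : (val 𝒜 r ⟨x, ρ.hVU ρ.hxV⟩).val = Localization.mk a ⟨c, hcV ⟨x, hxV₁⟩⟩ :=
      congrArg (fun r' => (val 𝒜 r' ⟨x, hxV₁⟩).val) hr
    rw [hv]
    exact (LocalizedModule.mk_smul_mk a ρ.m ⟨c, hcV ⟨x, hxV₁⟩⟩ ⟨ρ.b, ρ.hbV ⟨x, ρ.hxV⟩⟩).symm

theorem exists_res (ρ : LocRep E t x) {U' : (Proj 𝒜).Opens} (hU' : U' ≤ U) (hx' : x ∈ U') :
    ∃ ρ' : LocRep E (F.presheaf.map (homOfLE hU').op t) x, ρ'.q = ρ.q := by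
  have hA := congrArg (F.presheaf.map (homOfLE (inf_le_left : ρ.V ⊓ U' ≤ ρ.V)).op) ρ.eq
  rw [res_res, res_smul, res_res, frac_res] at hA
  refine ⟨⟨ρ.V ⊓ U', ⟨ρ.hxV, hx'⟩, inf_le_right, ρ.g, inf_le_left.trans ρ.hVg, ρ.n, ρ.m, ρ.hm,
    ρ.b, ρ.hb, nv_mono 𝒜 inf_le_left ρ.hbV, ?_⟩, rfl⟩
  rw [res_res]
  exact hA

end LocRep

variable [SetLike.GradedSMul 𝒜 ℳ] [F.IsQuasicoherent]

/-- Local representations exist. -/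
theorem exists_rep
    (hcov : ∀ x : Proj 𝒜, ∃ g : s, g.1 ∉ (x : ProjectiveSpectrum 𝒜).asHomogeneousIdeal)
    {U : (Proj 𝒜).Opens} (t : Γ(F, U)) (x : Proj 𝒜) (hx : x ∈ U) : Nonempty (LocRep E t x) := by
  obtain ⟨g, hgx⟩ := hcov x
  have hxW : x ∈ U ⊓ D 𝒜 g.1 := ⟨hx, hgx⟩
  obtain ⟨e, h, hh, hhx, hhW⟩ :=
    Groth.Agent.H18.TildeSections.exists_homogeneous_basicOpen_subset 𝒜 (U ⊓ D 𝒜 g.1) x hxW
  have hge : g.1 ^ e ∈ 𝒜 e := pow_mem_one 𝒜 (hs1 g.1 g.2) e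
  obtain ⟨a, ha⟩ : ∃ a : Γ(Proj 𝒜, D 𝒜 g.1), a = frac 𝒜 (D 𝒜 g.1) hh hge (nv_pow 𝒜 le_rfl e) :=
    ⟨_, rfl⟩
  have hVmem : ∀ y : Proj 𝒜, y ∈ (Proj 𝒜).basicOpen a →
      h ∉ (y : ProjectiveSpectrum 𝒜).asHomogeneousIdeal := fun y hy => by
    rw [ha] at hy
    exact ((mem_basicOpen_frac 𝒜 _ _ _ y).mp hy).2
  have hVg : (Proj 𝒜).basicOpen a ≤ D 𝒜 g.1 := (Proj 𝒜).basicOpen_le a
  have hVU : (Proj 𝒜).basicOpen a ≤ U := fun y hy => (hhW y (hVmem y hy)).1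
  have hxV : x ∈ (Proj 𝒜).basicOpen a := by
    rw [ha]
    exact (mem_basicOpen_frac 𝒜 _ _ _ x).mpr ⟨hgx, hhx⟩
  have hhV : ∀ y : (Proj 𝒜).basicOpen a, h ∉ y.1.asHomogeneousIdeal := fun y => hVmem y.1 y.2
  obtain ⟨N, u, hu⟩ := Groth.Agent.H8.exists_smul_eq_res
    (Proj.isAffineOpen_basicOpen 𝒜 g.1 (hs1 g.1 g.2) Nat.one_pos) F a
    (F.presheaf.map (homOfLE hVU).op t)
  obtain ⟨k, m, hm, rfl⟩ := E.surj g u
  have hr : (Proj 𝒜).presheaf.map (homOfLE ((Proj 𝒜).basicOpen_le a)).op a =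
      frac 𝒜 ((Proj 𝒜).basicOpen a) hh hge (nv_pow 𝒜 hVg e) := by
    subst ha
    rfl
  rw [hr] at hu
  have hinv : frac 𝒜 ((Proj 𝒜).basicOpen a) hge hh hhV *
      frac 𝒜 ((Proj 𝒜).basicOpen a) hh hge (nv_pow 𝒜 hVg e) = 1 := frac_mul_swap _ _ _ _
  have ht : F.presheaf.map (homOfLE hVU).op t =
      frac 𝒜 ((Proj 𝒜).basicOpen a) hge hh hhV ^ N •
        F.presheaf.map (homOfLE hVg).op (E.ev g m) := by
    rw [← hu, smul_smul, ← mul_pow, hinv, one_pow, one_smul]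
  have hgeN : (g.1 ^ e) ^ N ∈ 𝒜 (N • e) := SetLike.pow_mem_graded N hge
  refine ⟨⟨(Proj 𝒜).basicOpen a, hxV, hVU, g, hVg, N • e + k, (g.1 ^ e) ^ N • m,
    SetLike.GradedSMul.smul_mem hgeN hm, h ^ N * g.1 ^ k,
    SetLike.mul_mem_graded (SetLike.pow_mem_graded N hh) (pow_mem_one 𝒜 (hs1 g.1 g.2) k),
    nv_mul 𝒜 (fun y hy => hhV y (y.1.isPrime.mem_of_pow_mem N hy)) (nv_pow 𝒜 hVg k), ?_⟩⟩
  rw [ht, ev_smul_res E g hVg hgeN m, smul_smul, frac_pow, frac_mul]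
  congr 1
  refine frac_eq_of 𝒜 _ _ _ _ _ _ ?_
  simp only [smul_eq_mul]
  ring

variable (hcov : ∀ x : Proj 𝒜, ∃ g : s, g.1 ∉ (x : ProjectiveSpectrum 𝒜).asHomogeneousIdeal)

/-- A section of the structure sheaf, as an element of the ring acting on sections of `M~`. -/
def toO {U : (Proj 𝒜).Opens} (r : Γ(Proj 𝒜, U)) : Twist.O (𝒜 := 𝒜) (op U) := r

/-- A chosen local representation. -/
noncomputable def theRep {U : (Proj 𝒜).Opens} (t : Γ(F, U)) (x : Proj 𝒜) (hx : x ∈ U) :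
    LocRep E t x := Classical.choice (exists_rep E hcov t x hx)

/-- The comparison map on sections. -/
noncomputable def psiFun (U : (Proj 𝒜).Opens) (t : Γ(F, U)) : GrTilde.sect 𝒜 ℳ 0 (op U) :=
  ⟨fun x => ⟨(theRep E hcov t x.1 x.2).q, (theRep E hcov t x.1 x.2).q_mem⟩, fun x => by
    refine ⟨(theRep E hcov t x.1 x.2).V, (theRep E hcov t x.1 x.2).hxV,
      homOfLE (theRep E hcov t x.1 x.2).hVU, (theRep E hcov t x.1 x.2).n,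
      (theRep E hcov t x.1 x.2).n, ⟨(theRep E hcov t x.1 x.2).m, (theRep E hcov t x.1 x.2).hm⟩,
      ⟨(theRep E hcov t x.1 x.2).b, (theRep E hcov t x.1 x.2).hb⟩,
      (theRep E hcov t x.1 x.2).hbV, Or.inl (by simp), fun y => ?_⟩
    exact LocRep.q_eq _ ((theRep E hcov t x.1 x.2).atPt y.1 y.2)⟩

theorem psiFun_val {U : (Proj 𝒜).Opens} (t : Γ(F, U)) (x : Proj 𝒜) (hx : x ∈ U)
    (ρ : LocRep E t x) :
    (((psiFun E hcov U t).1 ⟨x, hx⟩ : GrTilde.tildeAt 𝒜 ℳ 0 x) :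
      GrTilde.LocMod 𝒜 (M := M) x) = ρ.q :=
  LocRep.q_eq _ ρ

theorem psiFun_add {U : (Proj 𝒜).Opens} (t t' : Γ(F, U)) :
    psiFun E hcov U (t + t') = psiFun E hcov U t + psiFun E hcov U t' := by
  apply Subtype.ext
  funext x
  apply Subtype.ext
  obtain ⟨ρ'', hρ''⟩ := (theRep E hcov t x.1 x.2).exists_add (theRep E hcov t' x.1 x.2)
  exact (psiFun_val E hcov (t + t') x.1 x.2 ρ'').trans hρ''

theorem psiFun_smul {U : (Proj 𝒜).Opens} (r : Γ(Proj 𝒜, U)) (t : Γ(F, U)) :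
    psiFun E hcov U (r • t) = toO r • psiFun E hcov U t := by
  apply Subtype.ext
  funext x
  apply Subtype.ext
  obtain ⟨ρ', hρ'⟩ := (theRep E hcov t x.1 x.2).exists_smul r
  refine (psiFun_val E hcov (r • t) x.1 x.2 ρ').trans (hρ'.trans ?_)
  exact (GrTilde.coe_smul_val (𝒜 := 𝒜) (ℳ := ℳ) 0 x.1 ((toO r).1 x)
    ((psiFun E hcov U t).1 x)).symm

theorem psiFun_res {U U' : (Proj 𝒜).Opens} (hU' : U' ≤ U) (t : Γ(F, U)) :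
    psiFun E hcov U' (F.presheaf.map (homOfLE hU').op t) =
      GrTilde.res 𝒜 ℳ 0 (homOfLE hU').op (psiFun E hcov U t) := by
  apply Subtype.ext
  funext x
  apply Subtype.ext
  obtain ⟨ρ', hρ'⟩ := (theRep E hcov t x.1 (hU' x.2)).exists_res hU' x.2
  exact (psiFun_val E hcov _ x.1 x.2 ρ').trans hρ'

end
end Groth.Agent.H18.Serre
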