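import Groth.Agent.H18.Serre.Abstract2

/-!
# The comparison morphism `F ⟶ M~` is an isomorphism
-/

set_option autoImplicit false
universe u

namespace Groth.Agent.H18.Serre

open CategoryTheory AlgebraicGeometry Opposite TopologicalSpace
open Groth.Agent.H8 (res_res res_smul ringRes_res section_eq_of_cover)

section
variable {R A : Type u} [CommRing R] [CommRing A] [Algebra R A] {𝒜 : ℕ → Submodule R A}
  [GradedAlgebra 𝒜]
  {s : Finset A} {hs1 : ∀ f ∈ s, f ∈ 𝒜 1} {F : (Proj 𝒜).Modules}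
  {M : Type u} [AddCommGroup M] [Module R M] [Module A M] {ℳ : ℕ → Submodule R M}
  (E : EvData 𝒜 s hs1 F ℳ)
  [SetLike.GradedSMul 𝒜 ℳ] [F.IsQuasicoherent]
  (hcov : ∀ x : Proj 𝒜, ∃ g : s, g.1 ∉ (x : ProjectiveSpectrum 𝒜).asHomogeneousIdeal)

set_option backward.isDefEq.respectTransparency false in
/-- The comparison morphism on abelian presheaves. -/
noncomputable def psiPre : F.presheaf ⟶ (GrTilde.tilde 𝒜 ℳ 0).presheaf where
  app U := AddCommGrpCat.ofHom (AddMonoidHom.mk' (psiFun E hcov U.unop) (psiFun_add E hcov))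
  naturality U U' i := by
    ext t
    exact psiFun_res E hcov i.unop.le t

set_option backward.isDefEq.respectTransparency false in
/-- The comparison morphism on presheaves of modules. -/
noncomputable def psiMod : F.val ⟶ (GrTilde.tilde 𝒜 ℳ 0).val :=
  PresheafOfModules.homMk (psiPre E hcov) (fun U r t => psiFun_smul E hcov (U := U.unop) r t)

set_option backward.isDefEq.respectTransparency false in
/-- The comparison morphism `F ⟶ M~`. -/
noncomputable def psi : F ⟶ GrTilde.tilde 𝒜 ℳ 0 :=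
  Scheme.Modules.fullyFaithfulToPresheafOfModules.preimage (psiMod E hcov)

set_option backward.isDefEq.respectTransparency false in
theorem psi_app (U : (Proj 𝒜).Opens) (t : Γ(F, U)) :
    (psi E hcov).app U t = psiFun E hcov U t := rfl

theorem eq_zero_of_psiFun_eq_zero [DirectSum.Decomposition ℳ] {U : (Proj 𝒜).Opens} (t : Γ(F, U))
    (h : psiFun E hcov U t = 0) : t = 0 := by
  refine section_eq_of_cover F t 0 (fun x hxU => ?_)
  obtain ⟨ρ, -⟩ : ∃ ρ : LocRep E t x, ρ = theRep E hcov t x hxU := ⟨_, rfl⟩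
  have hq : (LocalizedModule.mk ρ.m ⟨ρ.b, ρ.hbV ⟨x, ρ.hxV⟩⟩ : GrTilde.LocMod 𝒜 (M := M) x) = 0 := by
    have h1 := psiFun_val E hcov t x hxU ρ
    rw [h] at h1
    exact h1.symm
  rw [← LocalizedModule.zero_mk (1 : (x : ProjectiveSpectrum 𝒜).asHomogeneousIdeal.toIdeal.primeCompl),
    LocalizedModule.mk_eq] at hq
  obtain ⟨⟨c, hc⟩, hcm⟩ := hq
  have hcm' : c • ρ.m = 0 := by
    have h2 : c • (1 : A) • ρ.m = c • ρ.b • (0 : M) := hcm
    rwa [one_smul, smul_zero, smul_zero] at h2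
  have h1 : ¬ ∀ j, (DirectSum.decompose 𝒜 c j : A) ∈
      (x : ProjectiveSpectrum 𝒜).asHomogeneousIdeal.toIdeal := fun hall =>
    hc (((x : ProjectiveSpectrum 𝒜).asHomogeneousIdeal.isHomogeneous.mem_iff).mpr hall)
  obtain ⟨j, hj⟩ := not_forall.mp h1
  have hc' : (DirectSum.decompose 𝒜 c j : A) ∈ 𝒜 j := SetLike.coe_mem _
  have hc'm : (DirectSum.decompose 𝒜 c j : A) • ρ.m = 0 :=
    component_smul_eq_zero 𝒜 ℳ ρ.hm hcm' j
  have hxV' : x ∈ ρ.V ⊓ D 𝒜 (DirectSum.decompose 𝒜 c j : A) := ⟨ρ.hxV, hj⟩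
  refine ⟨ρ.V ⊓ D 𝒜 (DirectSum.decompose 𝒜 c j : A), inf_le_left.trans ρ.hVU, hxV', ?_⟩
  rw [map_zero]
  have hA := congrArg (F.presheaf.map (homOfLE
    (inf_le_left : ρ.V ⊓ D 𝒜 (DirectSum.decompose 𝒜 c j : A) ≤ ρ.V)).op) ρ.eq
  rw [res_res, res_smul, res_res, frac_res] at hA
  rw [hA]
  have hnv : ∀ y : (ρ.V ⊓ D 𝒜 (DirectSum.decompose 𝒜 c j : A) : (Proj 𝒜).Opens),
      (DirectSum.decompose 𝒜 c j : A) ∉ y.1.asHomogeneousIdeal := fun y => y.2.2
  have hle : ρ.V ⊓ D 𝒜 (DirectSum.decompose 𝒜 c j : A) ≤ D 𝒜 ρ.g.1 := inf_le_left.trans ρ.hVg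
  have h2 := ev_smul_res E ρ.g hle hc' ρ.m
  rw [hc'm, map_zero, map_zero] at h2
  have hunit := frac_mul_swap (pow_mem_one 𝒜 (hs1 ρ.g.1 ρ.g.2) j) hc' (nv_pow 𝒜 hle j) hnv
  have hz : F.presheaf.map (homOfLE hle).op (E.ev ρ.g ρ.m) = 0 := by
    calc F.presheaf.map (homOfLE hle).op (E.ev ρ.g ρ.m)
        = (frac 𝒜 _ (pow_mem_one 𝒜 (hs1 ρ.g.1 ρ.g.2) j) hc' hnv *
            frac 𝒜 _ hc' (pow_mem_one 𝒜 (hs1 ρ.g.1 ρ.g.2) j) (nv_pow 𝒜 hle j)) •
            F.presheaf.map (homOfLE hle).op (E.ev ρ.g ρ.m) := by rw [hunit, one_smul]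
      _ = 0 := by rw [mul_smul, ← h2, smul_zero]
  rw [hz, smul_zero]

theorem psiFun_injective [DirectSum.Decomposition ℳ] (U : (Proj 𝒜).Opens) :
    Function.Injective (psiFun E hcov U) := by
  intro t t' h
  have h1 : psiFun E hcov U (t - t') = 0 := by
    have h2 := psiFun_add E hcov (t - t') t'
    rw [sub_add_cancel, h] at h2
    exact (add_eq_right.mp h2.symm)
  exact sub_eq_zero.mp (eq_zero_of_psiFun_eq_zero E hcov _ h1)

theorem psiFun_surjective_chart [DirectSum.Decomposition ℳ] (g : s) :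
    Function.Surjective (psiFun E hcov (D 𝒜 g.1)) := by
  intro σ
  obtain ⟨k, i, m, hik, hσ⟩ := Groth.Agent.H18.TildeSections.sections_eq_fraction 𝒜 ℳ 0
    Nat.one_pos (hs1 g.1 g.2) σ
  have hik' : i = k := by
    have : (i : ℤ) = (k : ℤ) := by rw [hik]; ring
    exact_mod_cast this
  subst hik'
  refine ⟨E.ev g m.1, ?_⟩
  apply Subtype.ext
  funext x
  apply Subtype.ext
  rw [hσ x]
  have hgi : g.1 ^ i ∈ 𝒜 i := pow_mem_one 𝒜 (hs1 g.1 g.2) i
  have heq : F.presheaf.map (homOfLE (le_refl (D 𝒜 g.1))).op (E.ev g m.1) =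
      frac 𝒜 (D 𝒜 g.1) hgi hgi (nv_pow 𝒜 le_rfl i) •
        F.presheaf.map (homOfLE (le_refl (D 𝒜 g.1))).op (E.ev g m.1) := by
    rw [frac_self, one_smul]
  exact psiFun_val E hcov (E.ev g m.1) x.1 x.2
    ⟨D 𝒜 g.1, x.2, le_rfl, g, le_rfl, i, m.1, m.2, g.1 ^ i, hgi, nv_pow 𝒜 le_rfl i, heq⟩

include E hcov in
/-- **Abstract Serre theorem**: evaluation data give an isomorphism `M~ ≅ F`. -/
theorem nonempty_iso [DirectSum.Decomposition ℳ] [IsScalarTower R A M] :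
    Nonempty (GrTilde.tilde 𝒜 ℳ 0 ≅ F) := by
  haveI : (GrTilde.tilde 𝒜 ℳ 0).IsQuasicoherent := Groth.Agent.S3545.result 𝒜 ℳ 0
  have hbij : ∀ g : s, Function.Bijective ((psi E hcov).app (D 𝒜 g.1)) := by
    intro g
    constructor
    · intro t t' h
      exact psiFun_injective E hcov _ ((psi_app E hcov _ t).symm.trans (h.trans (psi_app E hcov _ t')))
    · intro σ
      obtain ⟨t, ht⟩ := psiFun_surjective_chart E hcov g σ
      exact ⟨t, (psi_app E hcov _ t).trans ht⟩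
  have hcover : IsOpenCover (fun g : s => D 𝒜 g.1) := by
    refine eq_top_iff.mpr (fun x _ => ?_)
    obtain ⟨g, hg⟩ := hcov x
    exact Opens.mem_iSup.mpr ⟨g, hg⟩
  haveI : IsIso (psi E hcov) := Groth.Agent.H8.isIso_of_bijective_affine_cover (psi E hcov)
    (fun g : s => D 𝒜 g.1) hcover
    (fun g => Proj.isAffineOpen_basicOpen 𝒜 g.1 (hs1 g.1 g.2) Nat.one_pos) hbij
  exact ⟨(asIso (psi E hcov)).symm⟩

end
end Groth.Agent.H18.Serre
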