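import Groth.Agent.H18.Serre.Family

/-!
# Extension of sections: every section over a chart comes from a compatible family
-/

set_option autoImplicit false
universe u

noncomputable section

namespace Groth.Agent.H18.Serre

open CategoryTheory AlgebraicGeometry Opposite TopologicalSpace DirectSum
open Groth.Agent.H8 (res_res res_smul ringRes_res section_eq_of_cover)

section
variable {R A : Type u} [CommRing R] [CommRing A] [Algebra R A] (𝒜 : ℕ → Submodule R A)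
  [GradedAlgebra 𝒜]
  (s : Finset A) (hs1 : ∀ f ∈ s, f ∈ 𝒜 1) (F : (Proj 𝒜).Modules)

/-- `v` over `D₊(g)` extends `(g₀/g)^N u`. -/
def ExtProp (g₀ g : s) (u : Γ(F, D 𝒜 g₀.1)) (N : ℕ) (v : Γ(F, D 𝒜 g.1)) : Prop :=
  ∀ (W : (Proj 𝒜).Opens) (hWg : W ≤ D 𝒜 g.1) (hW0 : W ≤ D 𝒜 g₀.1),
    F.presheaf.map (homOfLE hWg).op v =
      frac 𝒜 W (pow_mem_one 𝒜 (hs1 g₀.1 g₀.2) N) (pow_mem_one 𝒜 (hs1 g.1 g.2) N)
        (nv_pow 𝒜 hWg N) • F.presheaf.map (homOfLE hW0).op u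

variable {𝒜 s hs1 F}

theorem extProp_raise {g₀ g : s} {u : Γ(F, D 𝒜 g₀.1)} {N : ℕ} {v : Γ(F, D 𝒜 g.1)}
    (h : ExtProp 𝒜 s hs1 F g₀ g u N v) (r : ℕ) :
    ExtProp 𝒜 s hs1 F g₀ g u (N + r)
      (frac 𝒜 (D 𝒜 g.1) (hs1 g₀.1 g₀.2) (hs1 g.1 g.2) (fun x => x.2) ^ r • v) := by
  intro W hWg hW0
  rw [res_smul, map_pow, frac_res, frac_pow, h W hWg hW0, smul_smul, frac_mul]
  congr 1
  exact frac_eq_of 𝒜 _ _ _ _ _ _ (by ring)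

variable (𝒜 s hs1 F) [F.IsQuasicoherent]

theorem exists_extProp (g₀ g : s) (u : Γ(F, D 𝒜 g₀.1)) :
    ∃ (N : ℕ) (v : Γ(F, D 𝒜 g.1)), ExtProp 𝒜 s hs1 F g₀ g u N v := by
  obtain ⟨a, ha⟩ : ∃ a : Γ(Proj 𝒜, D 𝒜 g.1),
      a = frac 𝒜 (D 𝒜 g.1) (hs1 g₀.1 g₀.2) (hs1 g.1 g.2) (fun x => x.2) := ⟨_, rfl⟩
  have hmem : ∀ y : Proj 𝒜, y ∈ (Proj 𝒜).basicOpen a ↔
      y ∈ D 𝒜 g.1 ∧ g₀.1 ∉ (y : ProjectiveSpectrum 𝒜).asHomogeneousIdeal := by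
    intro y
    rw [ha]
    exact mem_basicOpen_frac 𝒜 _ _ _ y
  have hle0 : (Proj 𝒜).basicOpen a ≤ D 𝒜 g₀.1 := fun y hy => ((hmem y).mp hy).2
  obtain ⟨N, v, hv⟩ := Groth.Agent.H8.exists_smul_eq_res
    (Proj.isAffineOpen_basicOpen 𝒜 g.1 (hs1 g.1 g.2) Nat.one_pos) F a
    (F.presheaf.map (homOfLE hle0).op u)
  refine ⟨N, v, fun W hWg hW0 => ?_⟩
  have hWB : W ≤ (Proj 𝒜).basicOpen a := fun y hy => (hmem y).mpr ⟨hWg hy, hW0 hy⟩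
  have h1 := congrArg (F.presheaf.map (homOfLE hWB).op) hv
  rw [res_smul, res_res, res_res, map_pow, ringRes_res] at h1
  rw [← h1]
  congr 1
  subst ha
  rw [frac_res, frac_pow]
  exact frac_eq_of 𝒜 _ _ _ _ _ _ rfl

/-- Every section over a chart is the component of a compatible family of some degree. -/
theorem exists_family (g₀ : s) (u : Γ(F, D 𝒜 g₀.1)) :
    ∃ (k : ℕ) (w : compatSub 𝒜 s hs1 F k), w.1 g₀ = u := by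
  choose N_ v_ hv_ using fun g : s => exists_extProp 𝒜 s hs1 F g₀ g u
  obtain ⟨N, hN⟩ : ∃ N : ℕ, ∀ g : s, N_ g ≤ N :=
    ⟨Finset.univ.sup N_, fun g => Finset.le_sup (Finset.mem_univ g)⟩
  have hA : ∀ g : s, ∃ v : Γ(F, D 𝒜 g.1), ExtProp 𝒜 s hs1 F g₀ g u N v := by
    intro g
    obtain ⟨r, hr⟩ := Nat.exists_eq_add_of_le (hN g)
    rw [hr]
    exact ⟨_, extProp_raise (hv_ g) r⟩
  choose v hv using hA
  have hB : ∀ g h : s, ∃ K : ℕ,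
      frac 𝒜 (D 𝒜 g.1 ⊓ D 𝒜 h.1) (hs1 g₀.1 g₀.2) (hs1 g.1 g.2) (fun x => x.2.1) ^ K •
        (F.presheaf.map (homOfLE (inf_le_left : D 𝒜 g.1 ⊓ D 𝒜 h.1 ≤ D 𝒜 g.1)).op (v g) -
          frac 𝒜 (D 𝒜 g.1 ⊓ D 𝒜 h.1) (pow_mem_one 𝒜 (hs1 h.1 h.2) N)
            (pow_mem_one 𝒜 (hs1 g.1 g.2) N) (nv_pow 𝒜 inf_le_left N) •
          F.presheaf.map (homOfLE (inf_le_right : D 𝒜 g.1 ⊓ D 𝒜 h.1 ≤ D 𝒜 h.1)).op (v h)) =
        0 := by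
    intro g h
    have haff : IsAffineOpen (D 𝒜 g.1 ⊓ D 𝒜 h.1) := by
      have h2 := Proj.isAffineOpen_basicOpen 𝒜 (g.1 * h.1)
        (SetLike.mul_mem_graded (hs1 g.1 g.2) (hs1 h.1 h.2)) (by norm_num)
      rwa [Proj.basicOpen_mul] at h2
    refine Groth.Agent.H8.exists_smul_eq_zero haff F _ _ ?_
    have hW0 : (Proj 𝒜).basicOpen (frac 𝒜 (D 𝒜 g.1 ⊓ D 𝒜 h.1) (hs1 g₀.1 g₀.2) (hs1 g.1 g.2)
        (fun x => x.2.1)) ≤ D 𝒜 g₀.1 := fun y hy => ((mem_basicOpen_frac 𝒜 _ _ _ y).mp hy).2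
    rw [map_sub, res_smul, res_res, res_res, frac_res, hv g _ _ hW0, hv h _ _ hW0, smul_smul,
      frac_mul, sub_eq_zero]
    congr 1
    exact frac_eq_of 𝒜 _ _ _ _ _ _ (by ring)
  choose K_ hK_ using hB
  obtain ⟨K, hK⟩ : ∃ K : ℕ, ∀ g h : s, K_ g h ≤ K :=
    ⟨Finset.univ.sup (fun p : s × s => K_ p.1 p.2), fun g h =>
      Finset.le_sup (f := fun p : s × s => K_ p.1 p.2) (Finset.mem_univ (g, h))⟩
  refine ⟨N + K, ⟨fun g =>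
    frac 𝒜 (D 𝒜 g.1) (hs1 g₀.1 g₀.2) (hs1 g.1 g.2) (fun x => x.2) ^ K • v g, ?_⟩, ?_⟩
  · show IsCompat 𝒜 s hs1 F (N + K) _
    intro g h
    beta_reduce
    obtain ⟨r, hr⟩ := Nat.exists_eq_add_of_le (hK g h)
    have h0 : frac 𝒜 (D 𝒜 g.1 ⊓ D 𝒜 h.1) (hs1 g₀.1 g₀.2) (hs1 g.1 g.2) (fun x => x.2.1) ^ K •
        (F.presheaf.map (homOfLE (inf_le_left : D 𝒜 g.1 ⊓ D 𝒜 h.1 ≤ D 𝒜 g.1)).op (v g) -
          frac 𝒜 (D 𝒜 g.1 ⊓ D 𝒜 h.1) (pow_mem_one 𝒜 (hs1 h.1 h.2) N)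
            (pow_mem_one 𝒜 (hs1 g.1 g.2) N) (nv_pow 𝒜 inf_le_left N) •
          F.presheaf.map (homOfLE (inf_le_right : D 𝒜 g.1 ⊓ D 𝒜 h.1 ≤ D 𝒜 h.1)).op (v h)) =
        0 := by
      rw [hr, pow_add, mul_comm, mul_smul, hK_ g h, smul_zero]
    rw [smul_sub, sub_eq_zero] at h0
    rw [res_smul, res_smul, map_pow, map_pow, frac_res, frac_res, h0, smul_smul, smul_smul]
    congr 1
    rw [frac_pow, frac_pow, frac_mul, frac_mul]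
    exact frac_eq_of 𝒜 _ _ _ _ _ _ (by ring)
  · show frac 𝒜 (D 𝒜 g₀.1) (hs1 g₀.1 g₀.2) (hs1 g₀.1 g₀.2) (fun x => x.2) ^ K • v g₀ = u
    rw [frac_self, one_pow, one_smul]
    have h1 := hv g₀ (D 𝒜 g₀.1) le_rfl le_rfl
    rw [frac_self, one_smul, res_self, res_self] at h1
    exact h1

/-- The evaluation data of the module of compatible families. -/
def famEvData : EvData 𝒜 s hs1 F (grading 𝒜 s hs1 F) where
  ev := evFam 𝒜 s hs1 F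
  ev_smul := evFam_smul 𝒜 s hs1 F
  compat := evFam_compat 𝒜 s hs1 F
  inj := evFam_inj 𝒜 s hs1 F
  surj := fun g u => by
    obtain ⟨k, w, hw⟩ := exists_family 𝒜 s hs1 F g u
    exact ⟨k, DirectSum.of (fun j => compatSub 𝒜 s hs1 F j) k w, isHom_of k w,
      (evFam_of 𝒜 s hs1 F g k w).trans hw⟩

end
end Groth.Agent.H18.Serre

end
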