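import Groth.Agent.H18.Serre.Abstract
import Mathlib.Algebra.Module.GradedModule

/-!
# The graded module of compatible families `Γ_*(F)`
-/

set_option autoImplicit false
universe u

noncomputable section

namespace Groth.Agent.H18.Serre

open CategoryTheory AlgebraicGeometry Opposite TopologicalSpace DirectSum
open Groth.Agent.H8 (res_res res_smul ringRes_res section_eq_of_cover)

section
variable {R A : Type u} [CommRing R] [CommRing A] [Algebra R A] (𝒜 : ℕ → Submodule R A)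
  [GradedAlgebra 𝒜]

theorem frac_eq_one_of {V : (Proj 𝒜).Opens} {n : ℕ} {a b : A} (ha : a ∈ 𝒜 n) (hb : b ∈ 𝒜 n)
    (hV : ∀ x : V, b ∉ x.1.asHomogeneousIdeal) (h : a = b) : frac 𝒜 V ha hb hV = 1 := by
  subst h
  exact frac_self 𝒜 _ _

variable (s : Finset A) (hs1 : ∀ f ∈ s, f ∈ 𝒜 1) (F : (Proj 𝒜).Modules)

/-- Families of sections over the charts. -/
abbrev Fam : Type u := ∀ g : s, Γ(F, D 𝒜 g.1)

/-- Compatibility of a family in degree `n`. -/
def IsCompat (n : ℕ) (u : Fam 𝒜 s F) : Prop :=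
  ∀ g h : s, F.presheaf.map (homOfLE (inf_le_left : D 𝒜 g.1 ⊓ D 𝒜 h.1 ≤ D 𝒜 g.1)).op (u g) =
    frac 𝒜 (D 𝒜 g.1 ⊓ D 𝒜 h.1) (pow_mem_one 𝒜 (hs1 h.1 h.2) n)
      (pow_mem_one 𝒜 (hs1 g.1 g.2) n) (nv_pow 𝒜 inf_le_left n) •
    F.presheaf.map (homOfLE (inf_le_right : D 𝒜 g.1 ⊓ D 𝒜 h.1 ≤ D 𝒜 h.1)).op (u h)

/-- The group of compatible families of degree `n`: sections of `F(n)`. -/
def compatSub (n : ℕ) : AddSubgroup (Fam 𝒜 s F) where
  carrier := {u | IsCompat 𝒜 s hs1 F n u}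
  zero_mem' := by
    intro g h
    rw [Pi.zero_apply, Pi.zero_apply, map_zero, map_zero, smul_zero]
  add_mem' := by
    intro u v hu hv g h
    rw [Pi.add_apply, Pi.add_apply, map_add, map_add, smul_add, hu g h, hv g h]
  neg_mem' := by
    intro u hu g h
    rw [Pi.neg_apply, Pi.neg_apply, map_neg, map_neg, smul_neg, hu g h]

/-- Graded scalar multiplication. -/
def gsm {i j : ℕ} (a : 𝒜 i) (u : compatSub 𝒜 s hs1 F j) : compatSub 𝒜 s hs1 F (i + j) :=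
  ⟨fun g => frac 𝒜 (D 𝒜 g.1) a.2 (pow_mem_one 𝒜 (hs1 g.1 g.2) i) (nv_pow 𝒜 le_rfl i) • u.1 g, by
    intro g h
    have hu := u.2 g h
    beta_reduce
    rw [res_smul, res_smul, frac_res, frac_res, hu, smul_smul, smul_smul, frac_mul, frac_mul]
    congr 1
    exact frac_eq_of 𝒜 _ _ _ _ _ _ (by ring)⟩

theorem gsm_apply {i j : ℕ} (a : 𝒜 i) (u : compatSub 𝒜 s hs1 F j) (g : s) :
    (gsm 𝒜 s hs1 F a u).1 g =
      frac 𝒜 (D 𝒜 g.1) a.2 (pow_mem_one 𝒜 (hs1 g.1 g.2) i) (nv_pow 𝒜 le_rfl i) • u.1 g := rfl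

instance instGSMul : GradedMonoid.GSMul (fun i => 𝒜 i) (fun j => compatSub 𝒜 s hs1 F j) where
  smul a u := gsm 𝒜 s hs1 F a u

instance instGMulAction :
    GradedMonoid.GMulAction (fun i => 𝒜 i) (fun j => compatSub 𝒜 s hs1 F j) where
  one_smul := fun ⟨j, u⟩ => Sigma.subtype_ext (zero_add j) (funext fun g => by
    show frac 𝒜 (D 𝒜 g.1) _ (pow_mem_one 𝒜 (hs1 g.1 g.2) 0) (nv_pow 𝒜 le_rfl 0) • u.1 g = u.1 g
    rw [frac_eq_one_of 𝒜 _ _ _ (pow_zero g.1).symm, one_smul])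
  mul_smul := fun ⟨i, a⟩ ⟨i', a'⟩ ⟨j, u⟩ => Sigma.subtype_ext (add_assoc i i' j)
    (funext fun g => by
      show frac 𝒜 (D 𝒜 g.1) _ (pow_mem_one 𝒜 (hs1 g.1 g.2) (i + i')) (nv_pow 𝒜 le_rfl (i + i')) •
          u.1 g =
        frac 𝒜 (D 𝒜 g.1) a.2 (pow_mem_one 𝒜 (hs1 g.1 g.2) i) (nv_pow 𝒜 le_rfl i) •
          frac 𝒜 (D 𝒜 g.1) a'.2 (pow_mem_one 𝒜 (hs1 g.1 g.2) i') (nv_pow 𝒜 le_rfl i') • u.1 g
      rw [smul_smul, frac_mul]
      congr 1
      exact frac_eq_of 𝒜 _ _ _ _ _ _ (by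
        show (a.1 * a'.1) * (g.1 ^ i * g.1 ^ i') = (a.1 * a'.1) * g.1 ^ (i + i')
        ring))

instance instGdistribMulAction :
    DirectSum.GdistribMulAction (fun i => 𝒜 i) (fun j => compatSub 𝒜 s hs1 F j) where
  smul_add a u v := Subtype.ext (funext fun g => smul_add _ _ _)
  smul_zero a := Subtype.ext (funext fun g => smul_zero _)

instance instGmodule : DirectSum.Gmodule (fun i => 𝒜 i) (fun j => compatSub 𝒜 s hs1 F j) where
  add_smul a a' u := Subtype.ext (funext fun g => by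
    show frac 𝒜 (D 𝒜 g.1) (a + a').2 _ _ • u.1 g =
      frac 𝒜 (D 𝒜 g.1) a.2 _ _ • u.1 g + frac 𝒜 (D 𝒜 g.1) a'.2 _ _ • u.1 g
    rw [← add_smul, frac_add])
  zero_smul u := Subtype.ext (funext fun g => by
    show frac 𝒜 (D 𝒜 g.1) (zero_mem _) _ _ • u.1 g = 0
    rw [frac_zero, zero_smul])

/-- The graded module `Γ_*(F) = ⨁ Γ(F(n))`. -/
abbrev MFam : Type u := ⨁ j, compatSub 𝒜 s hs1 F j

noncomputable instance instModuleA : Module A (MFam 𝒜 s hs1 F) :=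
  Module.compHom _ (DirectSum.decomposeRingEquiv 𝒜 : A ≃+* ⨁ i, 𝒜 i).toRingHom

noncomputable instance instModuleR : Module R (MFam 𝒜 s hs1 F) :=
  Module.compHom _ (algebraMap R A)

instance instIsScalarTower : IsScalarTower R A (MFam 𝒜 s hs1 F) :=
  IsScalarTower.of_algebraMap_smul (fun _ _ => rfl)

theorem smul_of {i j : ℕ} {a : A} (ha : a ∈ 𝒜 i) (u : compatSub 𝒜 s hs1 F j) :
    a • (DirectSum.of (fun j => compatSub 𝒜 s hs1 F j) j u : MFam 𝒜 s hs1 F) =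
      DirectSum.of (fun j => compatSub 𝒜 s hs1 F j) (i + j) (gsm 𝒜 s hs1 F ⟨a, ha⟩ u) := by
  show (DirectSum.decompose 𝒜 a : ⨁ i, 𝒜 i) •
    (DirectSum.of (fun j => compatSub 𝒜 s hs1 F j) j u : MFam 𝒜 s hs1 F) = _
  rw [DirectSum.decompose_of_mem 𝒜 ha]
  exact DirectSum.Gmodule.of_smul_of (fun i => 𝒜 i) (fun j => compatSub 𝒜 s hs1 F j) ⟨a, ha⟩ u

/-- Homogeneous elements: only one nonzero component. -/
def IsHom (n : ℕ) (x : MFam 𝒜 s hs1 F) : Prop := ∀ k, k ≠ n → x k = 0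

variable {𝒜 s hs1 F}

theorem isHom_of (n : ℕ) (u : compatSub 𝒜 s hs1 F n) :
    IsHom 𝒜 s hs1 F n (DirectSum.of (fun j => compatSub 𝒜 s hs1 F j) n u) :=
  fun k hk => DirectSum.of_eq_of_ne (β := fun j => compatSub 𝒜 s hs1 F j) n k u hk

theorem eq_of_isHom {n : ℕ} {x : MFam 𝒜 s hs1 F} (hx : IsHom 𝒜 s hs1 F n x) :
    x = DirectSum.of (fun j => compatSub 𝒜 s hs1 F j) n (x n) := by
  refine DFinsupp.ext (fun k => ?_)
  by_cases hk : k = n
  · subst hk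
    exact (DirectSum.of_eq_same (β := fun j => compatSub 𝒜 s hs1 F j) k (x k)).symm
  · rw [hx k hk]
    exact (DirectSum.of_eq_of_ne (β := fun j => compatSub 𝒜 s hs1 F j) n k (x n) hk).symm

theorem isHom_smul {i j : ℕ} {a : A} (ha : a ∈ 𝒜 i) {x : MFam 𝒜 s hs1 F}
    (hx : IsHom 𝒜 s hs1 F j x) : IsHom 𝒜 s hs1 F (i + j) (a • x) := by
  rw [eq_of_isHom hx, smul_of 𝒜 s hs1 F ha]
  exact isHom_of _ _

variable (𝒜 s hs1 F)

/-- The grading of `Γ_*(F)`. -/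
def grading (n : ℕ) : Submodule R (MFam 𝒜 s hs1 F) where
  carrier := {x | IsHom 𝒜 s hs1 F n x}
  add_mem' := by
    intro x y hx hy k hk
    rw [DirectSum.add_apply, hx k hk, hy k hk, add_zero]
  zero_mem' := by
    intro k _
    rfl
  smul_mem' := by
    intro r x hx
    have h := isHom_smul (SetLike.algebraMap_mem_graded 𝒜 r) hx
    rw [zero_add] at h
    exact h

instance instGradedSMul : SetLike.GradedSMul 𝒜 (grading 𝒜 s hs1 F) where
  smul_mem := fun _ _ _ _ ha hx => isHom_smul ha hx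

/-- The inclusion of a graded piece. -/
def toPiece (n : ℕ) : compatSub 𝒜 s hs1 F n →+ grading 𝒜 s hs1 F n where
  toFun u := ⟨DirectSum.of (fun j => compatSub 𝒜 s hs1 F j) n u, isHom_of n u⟩
  map_zero' := Subtype.ext (map_zero _)
  map_add' u v := Subtype.ext (map_add _ u v)

noncomputable instance instDecomposition : DirectSum.Decomposition (grading 𝒜 s hs1 F) where
  decompose' := DirectSum.map (toPiece 𝒜 s hs1 F)
  left_inv := by
    intro x
    induction x using DirectSum.induction_on with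
    | zero => rw [map_zero, map_zero]
    | of i u =>
      rw [DirectSum.map_of, DirectSum.coeAddMonoidHom_of]
      rfl
    | add x y hx hy => rw [map_add, map_add, hx, hy]
  right_inv := by
    intro y
    induction y using DirectSum.induction_on with
    | zero => rw [map_zero, map_zero]
    | of i z =>
      rw [DirectSum.coeAddMonoidHom_of]
      have e := eq_of_isHom z.2
      conv_lhs => rw [e]
      rw [DirectSum.map_of]
      congr 1
      exact Subtype.ext e.symm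
    | add x y hx hy => rw [map_add, map_add, hx, hy]

/-- Evaluation on the chart `D₊(g)` ("setting `g = 1`"). -/
noncomputable def evFam (g : s) : MFam 𝒜 s hs1 F →+ Γ(F, D 𝒜 g.1) :=
  DirectSum.toAddMonoid (fun n =>
    (Pi.evalAddMonoidHom (fun g : s => Γ(F, D 𝒜 g.1)) g).comp (compatSub 𝒜 s hs1 F n).subtype)

theorem evFam_of (g : s) (n : ℕ) (u : compatSub 𝒜 s hs1 F n) :
    evFam 𝒜 s hs1 F g (DirectSum.of (fun j => compatSub 𝒜 s hs1 F j) n u) = u.1 g :=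
  DirectSum.toAddMonoid_of _ _ _

theorem evFam_smul (g : s) (d : ℕ) (a : A) (ha : a ∈ 𝒜 d) (x : MFam 𝒜 s hs1 F) :
    evFam 𝒜 s hs1 F g (a • x) =
      frac 𝒜 (D 𝒜 g.1) ha (pow_mem_one 𝒜 (hs1 g.1 g.2) d) (nv_pow 𝒜 le_rfl d) •
        evFam 𝒜 s hs1 F g x := by
  induction x using DirectSum.induction_on with
  | zero => rw [smul_zero, map_zero, smul_zero]
  | of i u => rw [smul_of 𝒜 s hs1 F ha, evFam_of, evFam_of, gsm_apply]
  | add x y hx hy => rw [smul_add, map_add, map_add, hx, hy, smul_add]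

theorem evFam_compat (g h : s) (n : ℕ) (x : MFam 𝒜 s hs1 F) (hx : x ∈ grading 𝒜 s hs1 F n) :
    F.presheaf.map (homOfLE (inf_le_left : D 𝒜 g.1 ⊓ D 𝒜 h.1 ≤ D 𝒜 g.1)).op
        (evFam 𝒜 s hs1 F g x) =
      frac 𝒜 (D 𝒜 g.1 ⊓ D 𝒜 h.1) (pow_mem_one 𝒜 (hs1 h.1 h.2) n)
        (pow_mem_one 𝒜 (hs1 g.1 g.2) n) (nv_pow 𝒜 inf_le_left n) •
      F.presheaf.map (homOfLE (inf_le_right : D 𝒜 g.1 ⊓ D 𝒜 h.1 ≤ D 𝒜 h.1)).op
        (evFam 𝒜 s hs1 F h x) := by
  rw [eq_of_isHom hx, evFam_of, evFam_of]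
  exact (x n).2 g h

theorem evFam_inj (n : ℕ) (x : MFam 𝒜 s hs1 F) (hx : x ∈ grading 𝒜 s hs1 F n)
    (h0 : ∀ g, evFam 𝒜 s hs1 F g x = 0) : x = 0 := by
  have e := eq_of_isHom hx
  have h1 : x n = 0 := by
    apply Subtype.ext
    funext g
    have h2 := h0 g
    rw [e, evFam_of] at h2
    exact h2
  rw [e, h1, map_zero]

end
end Groth.Agent.H18.Serre

end
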