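import Groth.Agent.H18.Serre.Abstract3
import Groth.Agent.H18.Serre.Extension
import Groth.Agent.H8.CohAffine

/-!
# Finitely generated graded submodules and evaluation data
-/

set_option autoImplicit false
universe u

noncomputable section

namespace Groth.Agent.H18.Serre

open CategoryTheory AlgebraicGeometry Opposite TopologicalSpace DirectSum

section HomSub
variable {R A : Type u} [CommRing R] [CommRing A] [Algebra R A] (𝒜 : ℕ → Submodule R A)
  [GradedAlgebra 𝒜]
  {M : Type u} [AddCommGroup M] [Module R M] [Module A M] [IsScalarTower R A M]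
  (ℳ : ℕ → Submodule R M) [DirectSum.Decomposition ℳ] [SetLike.GradedSMul 𝒜 ℳ]

omit [IsScalarTower R A M] in
theorem decompose_smul_of_lt {i : ℕ} {a : A} (ha : a ∈ 𝒜 i) (z : M) {n : ℕ} (hn : n < i) :
    (DirectSum.decompose ℳ (a • z) n : M) = 0 := by
  classical
  refine DirectSum.Decomposition.inductionOn ℳ ?_ ?_ ?_ z
  · simp
  · intro j w
    have hmem : a • (w : M) ∈ ℳ (i + j) := SetLike.GradedSMul.smul_mem ha w.2
    exact DirectSum.decompose_of_mem_ne ℳ hmem (by omega)
  · intro z z' hz hz'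
    rw [smul_add, DirectSum.decompose_add, DirectSum.add_apply, Submodule.coe_add, hz, hz',
      add_zero]

omit [IsScalarTower R A M] in
include 𝒜 in
/-- The span of a set of homogeneous elements is a homogeneous submodule. -/
theorem decompose_mem_span {T : Set M} (hT : ∀ t ∈ T, ∃ j, t ∈ ℳ j) {y : M}
    (hy : y ∈ Submodule.span A T) (n : ℕ) :
    (DirectSum.decompose ℳ y n : M) ∈ Submodule.span A T := by
  classical
  induction hy using Submodule.span_induction generalizing n with
  | mem t ht =>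
    obtain ⟨j, hj⟩ := hT t ht
    by_cases hnj : j = n
    · subst hnj
      rw [DirectSum.decompose_of_mem_same ℳ hj]
      exact Submodule.subset_span ht
    · rw [DirectSum.decompose_of_mem_ne ℳ hj hnj]
      exact zero_mem _
  | zero => simp
  | add y z _ _ hy hz =>
    rw [DirectSum.decompose_add, DirectSum.add_apply, Submodule.coe_add]
    exact add_mem (hy n) (hz n)
  | smul a y _ hy =>
    revert n
    refine DirectSum.Decomposition.inductionOn 𝒜
      (motive := fun a => ∀ n, (DirectSum.decompose ℳ (a • y) n : M) ∈ Submodule.span A T)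
      ?_ ?_ ?_ a
    · intro n
      simp
    · intro i a' n
      by_cases hin : i ≤ n
      · obtain ⟨k, rfl⟩ := Nat.exists_eq_add_of_le hin
        rw [Groth.Agent.H18.TildeSections.coe_decompose_smul_of_mem 𝒜 ℳ a'.2 y k]
        exact Submodule.smul_mem _ _ (hy k)
      · rw [decompose_smul_of_lt 𝒜 ℳ a'.2 y (by omega)]
        exact zero_mem _
    · intro a a' ha ha' n
      rw [add_smul, DirectSum.decompose_add, DirectSum.add_apply, Submodule.coe_add]
      exact add_mem (ha n) (ha' n)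

variable (N : Submodule A M)

/-- The induced grading on a submodule. -/
def subGrading (n : ℕ) : Submodule R N where
  carrier := {y | (y : M) ∈ ℳ n}
  add_mem' := by
    intro y z hy hz
    show ((y + z : N) : M) ∈ ℳ n
    rw [Submodule.coe_add]
    exact add_mem hy hz
  zero_mem' := by
    show ((0 : N) : M) ∈ ℳ n
    rw [Submodule.coe_zero]
    exact zero_mem _
  smul_mem' := by
    intro r y hy
    show ((r • y : N) : M) ∈ ℳ n
    rw [Submodule.coe_smul_of_tower]
    exact Submodule.smul_mem _ r hy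

instance instGradedSMulSub : SetLike.GradedSMul 𝒜 (subGrading ℳ N) where
  smul_mem := fun i j a y ha hy => by
    have hy' : (y : M) ∈ ℳ j := hy
    show ((a • y : N) : M) ∈ ℳ (i + j)
    rw [Submodule.coe_smul]
    exact SetLike.GradedSMul.smul_mem ha hy'

variable {N}

theorem subGrading_isInternal
    (hN : ∀ y ∈ N, ∀ n, (DirectSum.decompose ℳ y n : M) ∈ N) :
    DirectSum.IsInternal (subGrading ℳ N) := by
  classical
  let ι : ∀ n, subGrading ℳ N n →+ ℳ n := fun n =>
    { toFun := fun y => ⟨(y.1 : M), y.2⟩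
      map_zero' := rfl
      map_add' := fun _ _ => rfl }
  have hcomm : ∀ x : ⨁ n, subGrading ℳ N n,
      ((DirectSum.coeAddMonoidHom (subGrading ℳ N) x : N) : M) =
        DirectSum.coeAddMonoidHom ℳ (DirectSum.map ι x) := by
    intro x
    induction x using DirectSum.induction_on with
    | zero => simp
    | of i y =>
      rw [DirectSum.coeAddMonoidHom_of, DirectSum.map_of, DirectSum.coeAddMonoidHom_of]
      rfl
    | add x y hx hy => rw [map_add, map_add, map_add, Submodule.coe_add, hx, hy]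
  have hι : Function.Injective (DirectSum.map ι) :=
    (DirectSum.map_injective ι).mpr
      (fun n y z h => Subtype.ext (Subtype.ext (congrArg (fun w : ℳ n => (w : M)) h)))
  constructor
  · intro x x' h
    apply hι
    apply (DirectSum.Decomposition.isInternal ℳ).injective
    rw [← hcomm, ← hcomm, h]
  · intro y
    refine ⟨∑ n ∈ (DirectSum.decompose ℳ (y : M)).support,
      DirectSum.of (fun n => subGrading ℳ N n) n
        ⟨⟨(DirectSum.decompose ℳ (y : M) n : M), hN y y.2 n⟩,
          (DirectSum.decompose ℳ (y : M) n).2⟩, ?_⟩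
    apply Subtype.ext
    rw [map_sum, AddSubmonoidClass.coe_finsetSum]
    simp only [DirectSum.coeAddMonoidHom_of]
    exact DirectSum.sum_support_decompose ℳ (y : M)

end HomSub

section Ev
variable {R A : Type u} [CommRing R] [CommRing A] [Algebra R A] {𝒜 : ℕ → Submodule R A}
  [GradedAlgebra 𝒜]
  {s : Finset A} {hs1 : ∀ f ∈ s, f ∈ 𝒜 1} {F : (Proj 𝒜).Modules}
  {M : Type u} [AddCommGroup M] [Module R M] [Module A M] [IsScalarTower R A M]
  {ℳ : ℕ → Submodule R M}

/-- Restriction of evaluation data to a submodule with enough elements. -/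
def EvData.restrict (E : EvData 𝒜 s hs1 F ℳ) (N : Submodule A M)
    (hsurj : ∀ (g : s) (u : Γ(F, D 𝒜 g.1)), ∃ (n : ℕ) (y : M), y ∈ N ∧ y ∈ ℳ n ∧ E.ev g y = u) :
    EvData 𝒜 s hs1 F (subGrading ℳ N) where
  ev g := (E.ev g).comp N.subtype.toAddMonoidHom
  ev_smul g d a ha y := E.ev_smul g d a ha (y : M)
  compat g h n y hy := E.compat g h n (y : M) hy
  inj n y hy h0 := Subtype.ext (E.inj n (y : M) hy h0)
  surj g u := by
    obtain ⟨n, y, hyN, hyn, he⟩ := hsurj g u
    exact ⟨n, ⟨y, hyN⟩, hyn, he⟩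

/-- Every section of the structure sheaf over `D₊(g)` is a single fraction. -/
theorem exists_frac_chart {g : A} (hg : g ∈ 𝒜 1) (c : Γ(Proj 𝒜, D 𝒜 g)) :
    ∃ (d : ℕ) (a : A) (ha : a ∈ 𝒜 d),
      c = frac 𝒜 (D 𝒜 g) ha (pow_mem_one 𝒜 hg d) (nv_pow 𝒜 le_rfl d) := by
  obtain ⟨z, rfl⟩ :=
    (ConcreteCategory.bijective_of_isIso (Proj.basicOpenIsoAway 𝒜 g hg Nat.one_pos).hom).2 c
  obtain ⟨k, a, ha, rfl⟩ := HomogeneousLocalization.Away.mk_surjective 𝒜 hg z
  have ha' : a ∈ 𝒜 k := by
    have h := ha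
    rwa [smul_eq_mul, mul_one] at h
  refine ⟨k, a, ha', ext_val 𝒜 (fun x => ?_)⟩
  apply HomogeneousLocalization.val_injective
  rfl

variable [SetLike.GradedSMul 𝒜 ℳ]

/-- If all modules of sections over the charts are finite, finitely many homogeneous elements
generate a submodule with enough elements. -/
theorem exists_finset_enough (E : EvData 𝒜 s hs1 F ℳ)
    (hfin : ∀ g : s, Module.Finite Γ(Proj 𝒜, D 𝒜 g.1) Γ(F, D 𝒜 g.1)) :
    ∃ T : Finset M, (∀ t ∈ (T : Set M), ∃ j, t ∈ ℳ j) ∧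
      ∀ (g : s) (u : Γ(F, D 𝒜 g.1)), ∃ (n : ℕ) (y : M),
        y ∈ Submodule.span A (T : Set M) ∧ y ∈ ℳ n ∧ E.ev g y = u := by
  classical
  have hG : ∀ g : s, ∃ G : Finset Γ(F, D 𝒜 g.1),
      Submodule.span Γ(Proj 𝒜, D 𝒜 g.1) (G : Set Γ(F, D 𝒜 g.1)) = ⊤ := fun g =>
    (hfin g).fg_top
  choose G hG using hG
  choose n_ m_ hm_ hev_ using E.surj
  refine ⟨Finset.univ.biUnion (fun g : s => (G g).image (m_ g)), ?_, ?_⟩
  · intro t ht
    rw [Finset.mem_coe, Finset.mem_biUnion] at ht
    obtain ⟨g, _, ht⟩ := ht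
    rw [Finset.mem_image] at ht
    obtain ⟨u, _, rfl⟩ := ht
    exact ⟨n_ g u, hm_ g u⟩
  · intro g u
    have hu : u ∈ Submodule.span Γ(Proj 𝒜, D 𝒜 g.1) (G g : Set Γ(F, D 𝒜 g.1)) := by
      rw [hG g]
      trivial
    have hgp : ∀ k : ℕ, frac 𝒜 (D 𝒜 g.1) (pow_mem_one 𝒜 (hs1 g.1 g.2) k)
        (pow_mem_one 𝒜 (hs1 g.1 g.2) k) (nv_pow 𝒜 le_rfl k) = 1 := fun k => frac_self 𝒜 _ _
    induction hu using Submodule.span_induction with
    | mem u hu =>
      refine ⟨n_ g u, m_ g u, Submodule.subset_span ?_, hm_ g u, hev_ g u⟩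
      rw [Finset.mem_coe, Finset.mem_biUnion]
      exact ⟨g, Finset.mem_univ g, Finset.mem_image_of_mem _ hu⟩
    | zero => exact ⟨0, 0, zero_mem _, zero_mem _, map_zero _⟩
    | add u u' _ _ hu hu' =>
      obtain ⟨n, y, hyN, hyn, hy⟩ := hu
      obtain ⟨n', y', hyN', hyn', hy'⟩ := hu'
      refine ⟨n' + n, g.1 ^ n' • y + g.1 ^ n • y',
        add_mem (Submodule.smul_mem _ _ hyN) (Submodule.smul_mem _ _ hyN'),
        add_mem (SetLike.GradedSMul.smul_mem (pow_mem_one 𝒜 (hs1 g.1 g.2) n') hyn) ?_, ?_⟩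
      · rw [add_comm]
        exact SetLike.GradedSMul.smul_mem (pow_mem_one 𝒜 (hs1 g.1 g.2) n) hyn'
      · rw [map_add, E.ev_smul g n' _ (pow_mem_one 𝒜 (hs1 g.1 g.2) n') y,
          E.ev_smul g n _ (pow_mem_one 𝒜 (hs1 g.1 g.2) n) y', hgp, hgp, one_smul, one_smul, hy,
          hy']
    | smul c u _ hu =>
      obtain ⟨n, y, hyN, hyn, hy⟩ := hu
      obtain ⟨d, a, ha, rfl⟩ := exists_frac_chart (hs1 g.1 g.2) c
      exact ⟨d + n, a • y, Submodule.smul_mem _ _ hyN, SetLike.GradedSMul.smul_mem ha hyn, by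
        rw [E.ev_smul g d a ha y, hy]⟩

end Ev

end Groth.Agent.H18.Serre

end
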