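import Groth.Prelude.Def_GrMod2
import Groth.Agent.H8.IsoCover
import Groth.Agent.H18.TildeSections

/-!
# Fraction sections of the structure sheaf of `Proj`
-/

set_option autoImplicit false
universe u

namespace Groth.Agent.H18.Serre

open CategoryTheory AlgebraicGeometry Opposite TopologicalSpace

section
variable {R A : Type u} [CommRing R] [CommRing A] [Algebra R A] (𝒜 : ℕ → Submodule R A)
  [GradedAlgebra 𝒜]

/-- The value at a point of a section of the structure sheaf of `Proj`. -/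
abbrev val {V : (Proj 𝒜).Opens} (r : Γ(Proj 𝒜, V)) (x : V) : Twist.A0 𝒜 x.1 :=
  (r : Twist.O (𝒜 := 𝒜) (op V)).1 x

theorem ext_val {V : (Proj 𝒜).Opens} {r r' : Γ(Proj 𝒜, V)}
    (h : ∀ x : V, val 𝒜 r x = val 𝒜 r' x) : r = r' :=
  show (r : Twist.O (𝒜 := 𝒜) (op V)) = r' from Subtype.ext (funext h)

theorem val_res {V W : (Proj 𝒜).Opens} (h : V ≤ W) (r : Γ(Proj 𝒜, W)) (x : V) :
    val 𝒜 ((Proj 𝒜).presheaf.map (homOfLE h).op r) x = val 𝒜 r ⟨x.1, h x.2⟩ := rfl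

theorem val_mul {V : (Proj 𝒜).Opens} (r r' : Γ(Proj 𝒜, V)) (x : V) :
    val 𝒜 (r * r') x = val 𝒜 r x * val 𝒜 r' x := rfl

theorem val_add {V : (Proj 𝒜).Opens} (r r' : Γ(Proj 𝒜, V)) (x : V) :
    val 𝒜 (r + r') x = val 𝒜 r x + val 𝒜 r' x := rfl

theorem val_one {V : (Proj 𝒜).Opens} (x : V) :
    val 𝒜 (1 : Γ(Proj 𝒜, V)) x = 1 := rfl

theorem val_pow {V : (Proj 𝒜).Opens} (r : Γ(Proj 𝒜, V)) (N : ℕ) (x : V) :
    val 𝒜 (r ^ N) x = val 𝒜 r x ^ N := rfl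

/-- The fraction `a / b` as a section of the structure sheaf over an open where `b` does not
vanish. -/
def frac (V : (Proj 𝒜).Opens) {n : ℕ} {a b : A} (ha : a ∈ 𝒜 n) (hb : b ∈ 𝒜 n)
    (hV : ∀ x : V, b ∉ x.1.asHomogeneousIdeal) : Γ(Proj 𝒜, V) :=
  (⟨fun x => HomogeneousLocalization.mk ⟨n, ⟨a, ha⟩, ⟨b, hb⟩, hV x⟩,
    fun x => ⟨V, x.2, 𝟙 _, n, ⟨a, ha⟩, ⟨b, hb⟩, hV, fun _ => rfl⟩⟩ : Twist.O (𝒜 := 𝒜) (op V))

theorem val_frac (V : (Proj 𝒜).Opens) {n : ℕ} {a b : A} (ha : a ∈ 𝒜 n) (hb : b ∈ 𝒜 n)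
    (hV : ∀ x : V, b ∉ x.1.asHomogeneousIdeal) (x : V) :
    (val 𝒜 (frac 𝒜 V ha hb hV) x).val = Localization.mk a ⟨b, hV x⟩ := rfl

theorem frac_res {V W : (Proj 𝒜).Opens} (h : V ≤ W) {n : ℕ} {a b : A} (ha : a ∈ 𝒜 n)
    (hb : b ∈ 𝒜 n) (hW : ∀ x : W, b ∉ x.1.asHomogeneousIdeal) :
    (Proj 𝒜).presheaf.map (homOfLE h).op (frac 𝒜 W ha hb hW) =
      frac 𝒜 V ha hb (fun x => hW ⟨x.1, h x.2⟩) := rfl

theorem frac_eq_of {V : (Proj 𝒜).Opens} {n n' : ℕ} {a b a' b' : A} (ha : a ∈ 𝒜 n)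
    (hb : b ∈ 𝒜 n) (hV : ∀ x : V, b ∉ x.1.asHomogeneousIdeal) (ha' : a' ∈ 𝒜 n')
    (hb' : b' ∈ 𝒜 n') (hV' : ∀ x : V, b' ∉ x.1.asHomogeneousIdeal) (h : a * b' = a' * b) :
    frac 𝒜 V ha hb hV = frac 𝒜 V ha' hb' hV' := by
  refine ext_val 𝒜 (fun x => ?_)
  apply HomogeneousLocalization.val_injective
  rw [val_frac, val_frac, Localization.mk_eq_mk_iff, Localization.r_iff_exists]
  refine ⟨1, ?_⟩
  simp only [OneMemClass.coe_one, one_mul]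
  linear_combination h

theorem frac_mul {V : (Proj 𝒜).Opens} {n n' : ℕ} {a b a' b' : A} (ha : a ∈ 𝒜 n)
    (hb : b ∈ 𝒜 n) (hV : ∀ x : V, b ∉ x.1.asHomogeneousIdeal) (ha' : a' ∈ 𝒜 n')
    (hb' : b' ∈ 𝒜 n') (hV' : ∀ x : V, b' ∉ x.1.asHomogeneousIdeal) :
    frac 𝒜 V ha hb hV * frac 𝒜 V ha' hb' hV' =
      frac 𝒜 V (SetLike.mul_mem_graded ha ha') (SetLike.mul_mem_graded hb hb')
        (fun x h => (x.1.isPrime.mem_or_mem h).elim (hV x) (hV' x)) := by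
  refine ext_val 𝒜 (fun x => ?_)
  apply HomogeneousLocalization.val_injective
  rw [val_mul, HomogeneousLocalization.val_mul, val_frac, val_frac, val_frac,
    Localization.mk_mul]
  rfl

theorem frac_add {V : (Proj 𝒜).Opens} {n : ℕ} {a a' b : A} (ha : a ∈ 𝒜 n) (ha' : a' ∈ 𝒜 n)
    (hb : b ∈ 𝒜 n) (hV : ∀ x : V, b ∉ x.1.asHomogeneousIdeal) :
    frac 𝒜 V ha hb hV + frac 𝒜 V ha' hb hV = frac 𝒜 V (add_mem ha ha') hb hV := by
  refine ext_val 𝒜 (fun x => ?_)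
  apply HomogeneousLocalization.val_injective
  rw [val_add, HomogeneousLocalization.val_add, val_frac, val_frac, val_frac,
    Localization.add_mk_self]

theorem frac_self {V : (Proj 𝒜).Opens} {n : ℕ} {b : A} (hb : b ∈ 𝒜 n)
    (hV : ∀ x : V, b ∉ x.1.asHomogeneousIdeal) : frac 𝒜 V hb hb hV = 1 := by
  refine ext_val 𝒜 (fun x => ?_)
  apply HomogeneousLocalization.val_injective
  rw [val_frac, val_one, HomogeneousLocalization.val_one]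
  exact Localization.mk_self (⟨b, hV x⟩ : x.1.asHomogeneousIdeal.toIdeal.primeCompl)

theorem frac_zero {V : (Proj 𝒜).Opens} {n : ℕ} {b : A} (hb : b ∈ 𝒜 n)
    (hV : ∀ x : V, b ∉ x.1.asHomogeneousIdeal) : frac 𝒜 V (zero_mem _) hb hV = 0 := by
  refine ext_val 𝒜 (fun x => ?_)
  apply HomogeneousLocalization.val_injective
  rw [val_frac, Localization.mk_zero]
  show (0 : Twist.Loc 𝒜 x.1) = (0 : Twist.A0 𝒜 x.1).val
  exact HomogeneousLocalization.val_zero.symm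

theorem frac_pow {V : (Proj 𝒜).Opens} {n : ℕ} {a b : A} (ha : a ∈ 𝒜 n) (hb : b ∈ 𝒜 n)
    (hV : ∀ x : V, b ∉ x.1.asHomogeneousIdeal) (N : ℕ) :
    frac 𝒜 V ha hb hV ^ N = frac 𝒜 V (SetLike.pow_mem_graded N ha) (SetLike.pow_mem_graded N hb)
      (fun x h => hV x (x.1.isPrime.mem_of_pow_mem N h)) := by
  refine ext_val 𝒜 (fun x => ?_)
  apply HomogeneousLocalization.val_injective
  rw [val_pow, HomogeneousLocalization.val_pow, val_frac, val_frac, Localization.mk_pow]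
  rfl

/-- Powers of a degree one element. -/
theorem pow_mem_one {g : A} (hg : g ∈ 𝒜 1) (n : ℕ) : g ^ n ∈ 𝒜 n := by
  have h := SetLike.pow_mem_graded n hg
  rwa [smul_eq_mul, mul_one] at h

theorem nv_pow {V : (Proj 𝒜).Opens} {g : A} (hV : V ≤ Proj.basicOpen 𝒜 g) (n : ℕ) :
    ∀ x : V, g ^ n ∉ x.1.asHomogeneousIdeal :=
  fun x h => (hV x.2 : g ∉ x.1.asHomogeneousIdeal) (x.1.isPrime.mem_of_pow_mem n h)

theorem nv_mul {V : (Proj 𝒜).Opens} {b b' : A} (hV : ∀ x : V, b ∉ x.1.asHomogeneousIdeal)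
    (hV' : ∀ x : V, b' ∉ x.1.asHomogeneousIdeal) : ∀ x : V, b * b' ∉ x.1.asHomogeneousIdeal :=
  fun x h => (x.1.isPrime.mem_or_mem h).elim (hV x) (hV' x)

theorem nv_mono {V W : (Proj 𝒜).Opens} (h : V ≤ W) {b : A}
    (hW : ∀ x : W, b ∉ x.1.asHomogeneousIdeal) : ∀ x : V, b ∉ x.1.asHomogeneousIdeal :=
  fun x => hW ⟨x.1, h x.2⟩

/-- Membership in the basic open of a section of the structure sheaf. -/
theorem mem_basicOpen_iff {U : (Proj 𝒜).Opens} (a : Γ(Proj 𝒜, U)) (x : Proj 𝒜) (hx : x ∈ U) :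
    x ∈ (Proj 𝒜).basicOpen a ↔ IsUnit (val 𝒜 a ⟨x, hx⟩) := by
  refine ((Proj 𝒜).mem_basicOpen a x hx).trans ?_
  have e : Proj.stalkIso' 𝒜 x ((ProjectiveSpectrum.Proj.structureSheaf 𝒜).presheaf.germ U x hx a) =
      val 𝒜 a ⟨x, hx⟩ := Proj.stalkIso'_germ 𝒜 U x hx a
  rw [← e]
  exact (isUnit_map_iff (Proj.stalkIso' 𝒜 x) _).symm

theorem mem_basicOpen_frac {V : (Proj 𝒜).Opens} {n : ℕ} {a b : A} (ha : a ∈ 𝒜 n)
    (hb : b ∈ 𝒜 n) (hV : ∀ x : V, b ∉ x.1.asHomogeneousIdeal) (x : Proj 𝒜) :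
    x ∈ (Proj 𝒜).basicOpen (frac 𝒜 V ha hb hV) ↔
      x ∈ V ∧ a ∉ (x : ProjectiveSpectrum 𝒜).asHomogeneousIdeal := by
  constructor
  · intro hx
    have hxV : x ∈ V := (Proj 𝒜).basicOpen_le _ hx
    refine ⟨hxV, ?_⟩
    have h1 := (mem_basicOpen_iff 𝒜 _ x hxV).mp hx
    rw [← HomogeneousLocalization.isUnit_iff_isUnit_val, val_frac, Localization.mk_eq_mk',
      IsLocalization.AtPrime.isUnit_mk'_iff] at h1
    exact h1
  · rintro ⟨hxV, hxa⟩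
    refine (mem_basicOpen_iff 𝒜 _ x hxV).mpr ?_
    rw [← HomogeneousLocalization.isUnit_iff_isUnit_val, val_frac, Localization.mk_eq_mk',
      IsLocalization.AtPrime.isUnit_mk'_iff]
    exact hxa

/-- Every section of the structure sheaf is locally a fraction. -/
theorem exists_frac_local {U : (Proj 𝒜).Opens} (r : Γ(Proj 𝒜, U)) (x : Proj 𝒜) (hx : x ∈ U) :
    ∃ (V : (Proj 𝒜).Opens) (_ : x ∈ V) (hVU : V ≤ U) (n : ℕ) (a b : A) (ha : a ∈ 𝒜 n)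
      (hb : b ∈ 𝒜 n) (hV : ∀ y : V, b ∉ y.1.asHomogeneousIdeal),
      (Proj 𝒜).presheaf.map (homOfLE hVU).op r = frac 𝒜 V ha hb hV := by
  obtain ⟨V, hxV, i, n, a, b, hb, hw⟩ := (r : Twist.O (𝒜 := 𝒜) (op U)).2 ⟨x, hx⟩
  refine ⟨V, hxV, i.le, n, a.1, b.1, a.2, b.2, hb, ?_⟩
  refine ext_val 𝒜 (fun y => ?_)
  exact hw y

end
end Groth.Agent.H18.Serre
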